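import Cfsg.Agent.ProdFus42.Main
import Cfsg.Agent.Fus93.GroupNormal
import Cfsg.Prelude.Def_CaseTheorems

/-!
# The direct factorisation
-/

set_option autoImplicit false
set_option linter.style.haveILetI false
set_option linter.unusedSectionVars false

namespace Cfsg.Agent.ProdFus42

open Subgroup Coprime
open scoped Pointwise commutatorElement

universe u

variable {G : Type u} [Group G] [Finite G] (D : Hyp G)

/-- The normal subgroup generated by the involutions of the first kind. -/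
abbrev firstFactor : Subgroup G := Subgroup.closure D.X₁

theorem firstFactor_normal : (firstFactor D).Normal := ⟨fun y hy g => by
  suffices firstFactor D ≤ (firstFactor D).comap (MulAut.conj g).toMonoidHom from this hy
  exact (closure_le _).mpr fun z hz => subset_closure (invClass_conj g hz)⟩

theorem S₁_le_firstFactor : D.S₁ ≤ firstFactor D := by
  intro s hs
  have hout : ∀ y ∈ D.S₁, y ∉ D.C₁ → y ∈ firstFactor D := fun y hy hyC =>
    subset_closure (D.mem_X₁ hy (Involution.orderOf_eq_two_iff'.mpr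
      ⟨D.dih₁.sq y hy hyC, fun h => hyC (h ▸ one_mem _)⟩))
  by_cases hsC : s ∈ D.C₁
  · obtain ⟨y, hy, hyC⟩ := D.dih₁.out
    rw [show s = y⁻¹ * (y * s) by group]
    refine mul_mem (inv_mem (hout y hy hyC)) (hout _ (mul_mem hy hs) fun h => hyC ?_)
    simpa using mul_mem h (inv_mem hsC)
  · exact hout s hs hsC

variable {D}
variable (hcomm : ∀ x ∈ D.X₁, ∀ f ∈ D.X₂, x * f = f * x)
include hcomm

theorem factors_comm {a b : G} (ha : a ∈ firstFactor D) (hb : b ∈ firstFactor D.swap) :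
    a * b = b * a := by
  suffices firstFactor D ≤ centralizer (firstFactor D.swap : Set G) from
    (mem_centralizer_iff.mp (this ha) b hb).symm
  refine (closure_le _).mpr fun x hx => SetLike.mem_coe.mpr (mem_centralizer_iff.mpr fun y hy => ?_)
  suffices firstFactor D.swap ≤ centralizer ({x} : Set G) from
    mem_centralizer_singleton_iff.mp (this hy)
  exact (closure_le _).mpr fun f hf => mem_centralizer_singleton_iff.mpr (hcomm x hx f hf).symm

/-- The second factor of the Sylow subgroup meets the first normal factor trivially. -/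
theorem inf_firstFactor : D.S₂ ⊓ firstFactor D = ⊥ := by
  haveI := Fact.mk Nat.prime_two
  set N := firstFactor D with hN
  set U := D.S₂ ⊓ N with hU
  set PN := ((D.P : Subgroup G)).subgroupOf N with hPN
  have hcent : ∀ u ∈ U, ∀ a ∈ N, a * u = u * a := fun u hu a ha =>
    factors_comm hcomm ha (S₁_le_firstFactor D.swap (mem_inf.mp hu).1)
  haveI : IsMulCommutative U :=
    ⟨⟨fun a b => Subtype.ext (hcent b b.2 a (mem_inf.mp a.2).2)⟩⟩
  letI : CommGroup U := { (inferInstance : Group U) with mul_comm := mul_comm' }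
  have hdec : ∀ z : PN, ∃ u : U, ∃ a ∈ D.S₁, a * (u : G) = ((z : N) : G) := by
    intro z
    obtain ⟨a, ha, b, hb, hab⟩ := D.exists_mul_of_mem z.2
    refine ⟨⟨b, hb, ?_⟩, a, ha, hab⟩
    show b ∈ N
    rw [show b = a⁻¹ * (a * b) by group, hab]
    exact mul_mem (inv_mem (S₁_le_firstFactor D ha)) (z : N).2
  choose φ₀ a ha hab using hdec
  let φ : PN →* U := MonoidHom.mk' φ₀ fun z w => Subtype.ext (D.eq_of_mul_eq (ha (z * w))
    (mul_mem (ha z) (ha w)) (φ₀ (z * w)).2.1 (mul_mem (φ₀ z).2.1 (φ₀ w).2.1) (by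
      have e : ((((z * w : PN) : N)) : G) = ((z : N) : G) * ((w : N) : G) := rfl
      rw [hab, e, ← hab z, ← hab w]
      calc a z * (φ₀ z : G) * (a w * φ₀ w) = a z * ((φ₀ z : G) * a w) * φ₀ w := by group
        _ = a z * (a w * φ₀ z) * φ₀ w := by rw [D.comm _ (ha w) _ (φ₀ z).2.1]
        _ = a z * a w * ((φ₀ z : G) * φ₀ w) := by group)).2
  have hφS : ∀ z : PN, ((z : N) : G) ∈ D.S₁ → φ z = 1 := fun z hz => Subtype.ext
    (D.eq_of_mul_eq (ha z) hz (φ₀ z).2.1 (one_mem _) (by rw [hab, mul_one])).2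
  haveI : PN.FiniteIndex := inferInstance
  set τ := MonoidHom.transfer φ with hτ
  have hkill : ∀ x : N, (x : G) ∈ D.X₁ → τ x = 1 := by
    intro x hx
    classical
    haveI := PN.fintypeQuotientOfFiniteIndex
    rw [hτ, MonoidHom.transfer_eq_prod_quotient_orbitRel_zpowers_quot]
    refine Finset.prod_eq_one fun q _ => hφS _ ?_
    set m := Function.minimalPeriod (x • ·) q.out
    set c : G := ((q.out.out : N) : G) with hc
    have hval : ((q.out.out⁻¹ * x ^ m * q.out.out : N) : G) = c⁻¹ * (x : G) ^ m * c := by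
      simp [hc]
    show ((q.out.out⁻¹ * x ^ m * q.out.out : N) : G) ∈ D.S₁
    have hP : ((q.out.out⁻¹ * x ^ m * q.out.out : N) : G) ∈ (D.P : Subgroup G) :=
      QuotientGroup.out_conj_pow_minimalPeriod_mem PN x q.out
    rw [hval] at hP ⊢
    rcases Nat.even_or_odd m with ⟨l, hl⟩ | ⟨l, hl⟩
    · rw [hl, ← two_mul, pow_mul, pow_two, Involution.mul_self_of_orderOf hx.1, one_pow]
      simp
    · rw [hl, pow_succ, pow_mul, pow_two, Involution.mul_self_of_orderOf hx.1, one_pow, one_mul] at hP ⊢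
      have h2 := invClass_conj c⁻¹ hx
      rw [inv_inv] at h2
      exact D.mem_S₁ h2 hP
  have hker : ∀ y : N, τ y = 1 := by
    have hle : N ≤ τ.ker.map N.subtype := (closure_le _).mpr fun x hx =>
      ⟨⟨x, subset_closure hx⟩, hkill _ hx, rfl⟩
    intro y
    obtain ⟨w, hw, hwy⟩ := hle y.2
    exact (Subtype.ext hwy : w = y) ▸ hw
  have hodd : Odd PN.index := by
    haveI := firstFactor_normal D
    rw [← Nat.not_even_iff_odd, even_iff_two_dvd]
    obtain ⟨T, hT⟩ := Fus93.exists_sylow_inf D.P N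
    rw [inf_subgroupOf_right] at hT
    rw [hPN, ← hT]
    exact T.not_dvd_index
  refine eq_bot_iff.mpr fun u hu => ?_
  let u' : N := ⟨u, (mem_inf.mp hu).2⟩
  have key : ∀ (k : ℕ) (g₀ : N), g₀⁻¹ * u' ^ k * g₀ ∈ PN → g₀⁻¹ * u' ^ k * g₀ = u' ^ k := by
    intro k g₀ _
    have hc : Commute g₀ u' := Subtype.ext (hcent u hu g₀ g₀.2)
    rw [mul_assoc, ← (hc.pow_right k).eq, inv_mul_cancel_left]
  have h1 := MonoidHom.transfer_eq_pow φ u' key
  rw [← hτ, hker] at h1
  have hpow : (φ ⟨u', D.le₂ (mem_inf.mp hu).1⟩) ^ PN.index = 1 := by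
    rw [← map_pow, h1]
    exact congrArg φ (Subtype.ext rfl)
  have hφu : (φ ⟨u', D.le₂ (mem_inf.mp hu).1⟩ : G) = u :=
    (D.eq_of_mul_eq (ha _) (one_mem _) (φ₀ _).2.1 (mem_inf.mp hu).1 (by rw [hab, one_mul])).2
  have hpow' : u ^ PN.index = 1 := by
    have := congrArg Subtype.val hpow
    rwa [SubmonoidClass.coe_pow, hφu] at this
  refine mem_bot.mpr (eq_one_of_odd_of_mem D.P.isPGroup' ?_ (D.le₂ (mem_inf.mp hu).1))
  exact hodd.of_dvd_nat (orderOf_dvd_of_pow_eq_one hpow')

theorem sylow_inf_firstFactor : (D.P : Subgroup G) ⊓ firstFactor D = D.S₁ := by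
  refine le_antisymm (fun y hy => ?_) (le_inf D.le₁ (S₁_le_firstFactor D))
  obtain ⟨hyP, hyN⟩ := mem_inf.mp hy
  obtain ⟨a, ha, b, hb, rfl⟩ := D.exists_mul_of_mem hyP
  have h : b ∈ D.S₂ ⊓ firstFactor D := mem_inf.mpr ⟨hb, by
    simpa using mul_mem (inv_mem (S₁_le_firstFactor D ha)) hyN⟩
  rw [inf_firstFactor hcomm, mem_bot] at h
  rwa [h, mul_one]

theorem odd_relIndex : Odd (D.S₁.relIndex (firstFactor D)) := by
  haveI := Fact.mk Nat.prime_two
  haveI := firstFactor_normal D
  obtain ⟨T, hT⟩ := Fus93.exists_sylow_inf D.P (firstFactor D)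
  rw [sylow_inf_firstFactor hcomm] at hT
  rw [Subgroup.relIndex, ← hT, ← Nat.not_even_iff_odd, even_iff_two_dvd]
  exact T.not_dvd_index

/-- The group is the direct product of the two factors. -/
theorem isInternalDirectProduct (hO : pPrimeCore 2 G = ⊥)
    (hidx : ∀ N : Subgroup G, N.Normal → Odd N.index → N = ⊤) :
    IsInternalDirectProduct (firstFactor D) (firstFactor D.swap) ⊤ := by
  haveI := Fact.mk Nat.prime_two
  haveI h₁ := firstFactor_normal D
  haveI h₂ := firstFactor_normal D.swap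
  have hcomm' : ∀ x ∈ D.swap.X₁, ∀ f ∈ D.swap.X₂, x * f = f * x := fun x hx f hf =>
    (hcomm f hf x hx).symm
  have hsup : firstFactor D ⊔ firstFactor D.swap = ⊤ := by
    have hle : (D.P : Subgroup G) ≤ firstFactor D ⊔ firstFactor D.swap := by
      rw [← D.sup]
      exact sup_le_sup (S₁_le_firstFactor D) (S₁_le_firstFactor D.swap)
    refine hidx _ inferInstance ?_
    rw [← Nat.not_even_iff_odd, even_iff_two_dvd]
    exact fun h => D.P.not_dvd_index (h.trans (index_dvd_of_le hle))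
  refine ⟨le_top, le_top, fun a ha b hb => factors_comm hcomm ha hb, ?_, hsup⟩
  set Z := firstFactor D ⊓ firstFactor D.swap with hZ
  have hcent : ∀ z ∈ Z, ∀ g : G, g * z = z * g := by
    intro z hz g
    suffices (⊤ : Subgroup G) ≤ centralizer {z} from mem_centralizer_singleton_iff.mp (this trivial)
    rw [← hsup]
    refine sup_le (fun a ha => mem_centralizer_singleton_iff.mpr ?_)
      fun b hb => mem_centralizer_singleton_iff.mpr ?_
    · exact factors_comm hcomm ha (mem_inf.mp hz).2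
    · exact (factors_comm hcomm (mem_inf.mp hz).1 hb).symm
  have hodd : Odd (Nat.card Z) := by
    rw [← Nat.not_even_iff_odd]
    intro he
    obtain ⟨z, hz, hzo⟩ := Involution.exists_involution_of_even he
    obtain ⟨g, hg⟩ := D.exists_conj (R := zpowers z)
      (IsPGroup.of_card (n := 1) (by rw [Nat.card_zpowers, hzo, pow_one]))
    obtain ⟨y, hy, hyz⟩ := hg (mem_zpowers z)
    have hzP : z ∈ (D.P : Subgroup G) := by
      have e : g * y * g⁻¹ = z := hyz
      have e2 : y = g⁻¹ * z * g := by rw [← e]; group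
      rw [mul_assoc, ← hcent z hz g, inv_mul_cancel_left] at e2
      exact e2 ▸ hy
    have m1 : z ∈ (D.P : Subgroup G) ⊓ firstFactor D := mem_inf.mpr ⟨hzP, (mem_inf.mp hz).1⟩
    have m2 : z ∈ (D.swap.P : Subgroup G) ⊓ firstFactor D.swap :=
      mem_inf.mpr ⟨hzP, (mem_inf.mp hz).2⟩
    rw [sylow_inf_firstFactor hcomm] at m1
    rw [sylow_inf_firstFactor hcomm'] at m2
    have m3 : z ∈ D.S₁ ⊓ D.S₂ := mem_inf.mpr ⟨m1, m2⟩
    rw [D.disj, mem_bot] at m3
    exact Involution.ne_one_of_orderOf hzo m3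
  rw [eq_bot_iff, ← hO]
  exact Thompson.le_pPrimeCore inferInstance (Nat.coprime_two_right.mpr hodd)

omit hcomm in
/-- The factorisation for a configuration with a nonabelian Sylow subgroup. -/
theorem exists_factorisation (hO : pPrimeCore 2 G = ⊥)
    (hidx : ∀ N : Subgroup G, N.Normal → Odd N.index → N = ⊤)
    (h : (∃ n, 3 ≤ n ∧ Nonempty (D.S₁ ≃* DihedralGroup (2 ^ (n - 1)))) ∨
      ∃ n, 3 ≤ n ∧ Nonempty (D.S₂ ≃* DihedralGroup (2 ^ (n - 1)))) :
    ∃ G₁ G₂ : Subgroup G, G₁.Normal ∧ G₂.Normal ∧ IsInternalDirectProduct G₁ G₂ ⊤ ∧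
      D.S₁ ≤ G₁ ∧ D.S₂ ≤ G₂ ∧ Odd (D.S₁.relIndex G₁) ∧ Odd (D.S₂.relIndex G₂) := by
  have hcomm : ∀ x ∈ D.X₁, ∀ f ∈ D.X₂, x * f = f * x := fun x hx f hf => by
    rcases h with ⟨n, hn, he⟩ | ⟨n, hn, he⟩
    · exact commute_of_nonabelian D hO hn he hx hf
    · exact (commute_of_nonabelian D.swap hO hn he hf hx).symm
  exact ⟨_, _, firstFactor_normal D, firstFactor_normal D.swap,
    isInternalDirectProduct hcomm hO hidx, S₁_le_firstFactor D, S₁_le_firstFactor D.swap,
    odd_relIndex hcomm, odd_relIndex (D := D.swap) fun x hx f hf => (hcomm f hf x hx).symm⟩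

omit hcomm in
/-- A 2-group isomorphic to a dihedral group is dihedral-like. -/
theorem exists_dihLike {S : Subgroup G} (hS : IsPGroup 2 S) {m : ℕ} (hm : 2 ≤ m)
    (e : S ≃* DihedralGroup m) :
    ∃ j, 1 ≤ j ∧ m = 2 ^ j ∧ ∃ C : Subgroup G, DihLike S C := by
  haveI := Fact.mk Nat.prime_two
  haveI : NeZero m := ⟨by omega⟩
  obtain ⟨l, hl⟩ := IsPGroup.iff_card.mp hS
  rw [Nat.card_congr e.toEquiv, DihedralGroup.nat_card] at hl
  obtain ⟨j, -, hj⟩ := (Nat.dvd_prime_pow Nat.prime_two).mp (show m ∣ 2 ^ l from hl ▸ dvd_mul_left m 2)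
  have hj1 : 1 ≤ j := by
    rcases Nat.eq_zero_or_pos j with rfl | h
    · simp at hj; omega
    · exact h
  refine ⟨j, hj1, hj, (zpowers (DihedralGroup.r 1 : DihedralGroup m)).map
    (S.subtype.comp e.symm.toMonoidHom), ?_⟩
  set C₀ := zpowers (DihedralGroup.r 1 : DihedralGroup m) with hC₀
  have hr : ∀ i : ZMod m, DihedralGroup.r i ∈ C₀ := fun i =>
    ⟨(i.val : ℤ), by simp⟩
  have hinj : Function.Injective (S.subtype.comp e.symm.toMonoidHom) :=
    S.subtype_injective.comp e.symm.injective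
  have hS' : S = (⊤ : Subgroup (DihedralGroup m)).map (S.subtype.comp e.symm.toMonoidHom) := by
    rw [← MonoidHom.range_eq_map, MonoidHom.range_comp,
      MonoidHom.range_eq_top.mpr e.symm.surjective, ← MonoidHom.range_eq_map, S.range_subtype]
  have hd : DihLike (⊤ : Subgroup (DihedralGroup m)) C₀ := by
    refine ⟨le_top, inferInstance, ?_, ?_, ?_, ?_⟩
    · rw [hC₀, Nat.card_zpowers, DihedralGroup.orderOf_r_one, hj]
      exact ⟨2 ^ (j - 1), by rw [← two_mul, ← pow_succ', Nat.sub_add_cancel hj1]⟩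
    · rintro (i | i) - h
      · exact absurd (hr i) h
      · exact DihedralGroup.sr_mul_self i
    · rintro (i | i) - (k | k) - h1 h2
      · exact absurd (hr i) h1
      · exact absurd (hr i) h1
      · exact absurd (hr k) h2
      · rw [DihedralGroup.sr_mul_sr]; exact hr _
    · refine ⟨DihedralGroup.sr 0, trivial, fun h => ?_⟩
      obtain ⟨k, hk⟩ := mem_zpowers_iff.mp h
      simp at hk
  have h2 := hd.image _ fun x _ h => hinj (h.trans (map_one _).symm)
  rwa [← hS'] at h2

end Cfsg.Agent.ProdFus42
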