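import Cfsg.Agent.S4481
import Cfsg.Agent.S4482
import Cfsg.Agent.S1225
import Cfsg.Agent.BC86.Modular
import Mathlib.RepresentationTheory.Character
import Cfsg.Agent.Lib.Involution.StronglyEmbedded

/-!
# A group with dihedral Sylow 2-subgroups of order at least 8 has no strongly embedded subgroup

A strongly embedded subgroup `R` gives one class of involutions in `L` and in `R`, with the same
centralisers, so the order formula bounds the index of `R` below the order of a Sylow 2-subgroup.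
-/

set_option autoImplicit false
set_option linter.style.haveILetI false
set_option linter.unusedSectionVars false

namespace Cfsg.Agent.ProdFus42

open Subgroup
open scoped Pointwise

universe u

variable {L : Type u} [Group L] [Finite L]

theorem dvd_degree_add {χ : IrrCharacter L} {σ : L} {N : ℕ} (hN : orderOf σ = N) {δ : ℤ}
    (hval : ∀ l : ℕ, 0 < l → l < N → (χ : L → ℂ) (σ ^ l) = δ) :
    (N : ℤ) ∣ (Cfsg.charDegree (χ : L → ℂ) : ℤ) + ((N : ℤ) - 1) * δ := by
  classical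
  obtain ⟨d, ρ, -, hρ⟩ := χ.2
  haveI := Fintype.ofFinite L
  set V := FDRep.of (ρ.comp (zpowers σ).subtype) with hV
  have hchar : ∀ g : zpowers σ, V.character g = (χ : L → ℂ) g := fun g => by
    rw [← hρ]
    rfl
  haveI : Invertible (Nat.card (zpowers σ) : ℂ) :=
    invertibleOfNonzero (Nat.cast_ne_zero.mpr Nat.card_pos.ne')
  have h := FDRep.average_char_eq_finrank_invariants V
  rw [inv_mul_eq_iff_eq_mul₀ (Nat.cast_ne_zero.mpr Nat.card_pos.ne')] at h
  have hsum : ∑ g : zpowers σ, V.character g = ∑ i ∈ Finset.range N, (χ : L → ℂ) (σ ^ i) := by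
    rw [← Equiv.sum_comp (finEquivZPowers (isOfFinOrder_of_finite σ))]
    simp only [hchar]
    rw [← hN, Finset.sum_range]
    simp [finEquivZPowers_apply]
  have hN0 : 0 < N := hN ▸ orderOf_pos σ
  have h1 : (χ : L → ℂ) 1 = d := by
    rw [← hρ, Representation.char_one]
    simp
  have hdeg : Cfsg.charDegree (χ : L → ℂ) = d := by
    rw [Cfsg.charDegree, h1]
    simp
  have hrest : ∑ i ∈ Finset.range N, (χ : L → ℂ) (σ ^ i) = (d : ℂ) + ((N : ℂ) - 1) * δ := by
    obtain ⟨M, rfl⟩ : ∃ M, N = M + 1 := ⟨N - 1, by omega⟩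
    rw [Finset.sum_range_succ', pow_zero, h1]
    rw [Finset.sum_congr rfl fun i hi => hval (i + 1) (by omega)
      (by have := Finset.mem_range.mp hi; omega)]
    simp
    ring
  rw [hsum, hrest, Nat.card_zpowers, hN] at h
  refine ⟨Module.finrank ℂ (Representation.invariants V.ρ), ?_⟩
  rw [hdeg]
  exact_mod_cast h

/-- The data of the order formula for `L` at `σ` and `τ`. -/
theorem exists_order_formula {n : ℕ} (hn : 3 ≤ n) (P : Sylow 2 L)
    (hP : Nonempty ((P : Subgroup L) ≃* DihedralGroup (2 ^ (n - 1)))) {σ τ : L}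
    (S : ZStar.Dih.Setup P n σ τ)
    (hconj : IsConj (σ ^ (2 ^ (n - 2))) τ ∧ IsConj (σ ^ (2 ^ (n - 2))) (σ * τ)) :
    ∃ (x : ℕ) (δ : ℤ), (δ = 1 ∨ δ = -1) ∧ (x : ℤ) ≠ δ ∧ (4 : ℤ) ∣ (x : ℤ) - δ ∧
      (Nat.card L : ℚ) * ((x : ℚ) - δ) ^ 2 = 2 * (x : ℚ) * ((x : ℚ) + δ) *
        ((Nat.card (centralizer ({σ ^ (2 ^ (n - 2))} : Set L)) : ℚ) ^ 3 *
          (1 / (Nat.card (centralizer ({σ ^ (2 ^ (n - 2)), τ} : Set L)) : ℚ) +
            1 / (Nat.card (centralizer ({σ ^ (2 ^ (n - 2)), σ * τ} : Set L)) : ℚ)) ^ 2) := by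
  obtain ⟨M, hM⟩ := BC86.exists_isPModular Nat.prime_two
  obtain ⟨ζ, hζ⟩ : ∃ ζ : ℂ, IsPrimitiveRoot ζ (2 ^ (n - 1)) :=
    ⟨_, Complex.isPrimitiveRoot_exp _ (by positivity)⟩
  obtain ⟨-, χ₁, χ₂, χ₃, χ', δ₁, δ₂, δ₃, hδ, -, -, -, hne, -, -, -, -, -, -, hblock, hval, -⟩ :=
    S4481.result M hM n hn P hP σ S.hσ S.ord ζ hζ
  have hmem : χ₁ ∈ Cfsg.principalBlock M L := by rw [hblock]; exact Or.inr (Or.inl rfl)
  have hval' : ∀ l : ℕ, 0 < l → l < 2 ^ (n - 1) → (χ₁ : L → ℂ) (σ ^ l) = δ₁ := fun l h0 hl =>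
    (hval l h0 hl).1
  obtain ⟨h1, h2⟩ := S4482.result M hM n hn P σ τ S.hσ S.hτ S.ord S.inv S.rel S.gen hconj χ₁ hmem
    hne δ₁ hδ hval'
  refine ⟨Cfsg.charDegree (χ₁ : L → ℂ), δ₁, hδ, h1, ?_, by rw [h2]; ring⟩
  have h3 := dvd_degree_add S.ord hval'
  have h4 : (4 : ℤ) ∣ ((2 ^ (n - 1) : ℕ) : ℤ) := by
    obtain ⟨k, rfl⟩ : ∃ k, n = k + 3 := ⟨n - 3, by omega⟩
    exact ⟨2 ^ k, by rw [show k + 3 - 1 = k + 2 by omega, pow_add]; push_cast; ring⟩
  have h5 := Int.dvd_sub (h4.trans h3) (h4.mul_right δ₁)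
  convert h5 using 1
  ring

theorem bounds {x : ℕ} {δ : ℤ} (hδ : δ = 1 ∨ δ = -1) (hne : (x : ℤ) ≠ δ) (h4 : (4 : ℤ) ∣ (x : ℤ) - δ) :
    3 * ((x : ℚ) - δ) ^ 2 ≤ 8 * (x * (x + δ)) ∧ 8 * ((x : ℚ) * (x + δ)) ≤ 15 * ((x : ℚ) - δ) ^ 2 ∧
      (0 : ℚ) < ((x : ℚ) - δ) ^ 2 := by
  have hpos : (0 : ℚ) < ((x : ℚ) - δ) ^ 2 := by
    refine lt_of_le_of_ne (sq_nonneg _) (fun h => hne ?_)
    exact_mod_cast sub_eq_zero.mp (pow_eq_zero_iff (two_ne_zero) |>.mp h.symm)
  obtain ⟨k, hk⟩ := h4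
  rcases hδ with rfl | rfl
  · have : (5 : ℚ) ≤ x := by exact_mod_cast (by omega : 5 ≤ x)
    push_cast at *
    exact ⟨by nlinarith, by nlinarith, hpos⟩
  · have : (3 : ℚ) ≤ x := by exact_mod_cast (by omega : 3 ≤ x)
    push_cast at *
    exact ⟨by nlinarith, by nlinarith, hpos⟩

theorem card_add_one_le_index {R : Subgroup L} (hR : Cfsg.IsStronglyEmbedded R) {P : Subgroup L}
    (hP : IsPGroup 2 P) (hPR : P ≤ R) {u : L} (hu : u ∉ R) : Nat.card P + 1 ≤ R.index := by
  haveI := Fact.mk Nat.prime_two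
  classical
  have hse := (Involution.stronglyEmbedded_iff.mp hR).2.2
  let f : Option P → L ⧸ R := fun o => o.elim ((1 : L) : L ⧸ R) fun p => (((p : L) * u : L) : L ⧸ R)
  have hf : Function.Injective f := by
    rintro (_ | p) (_ | q) h
    · rfl
    · exfalso
      have := QuotientGroup.eq.mp h
      rw [inv_one, one_mul] at this
      exact hu (by simpa using mul_mem (inv_mem (hPR q.2)) this)
    · exfalso
      have := QuotientGroup.eq.mp h.symm
      rw [inv_one, one_mul] at this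
      exact hu (by simpa using mul_mem (inv_mem (hPR p.2)) this)
    · have h1 : u⁻¹ * ((p : L)⁻¹ * q) * u ∈ R := by
        have := QuotientGroup.eq.mp h
        rw [mul_inv_rev] at this
        simpa [mul_assoc] using this
      by_contra hne
      set s := (p : L)⁻¹ * (q : L) with hs
      have hs1 : s ≠ 1 := fun h' => hne (by rw [Subtype.ext (inv_mul_eq_one.mp h')])
      have hsP : s ∈ P := mul_mem (inv_mem p.2) q.2
      obtain ⟨k, hk⟩ := IsPGroup.iff_orderOf.mp hP ⟨s, hsP⟩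
      rw [Subgroup.orderOf_mk] at hk
      have hk0 : k ≠ 0 := fun h' => hs1 (orderOf_eq_one_iff.mp (by rw [hk, h', pow_zero]))
      set t := s ^ (2 ^ (k - 1)) with ht
      have hto : orderOf t = 2 := by
        rw [ht, orderOf_pow' s (by positivity), hk,
          Nat.gcd_eq_right (pow_dvd_pow 2 (by omega)), Nat.pow_div (by omega) two_pos,
          show k - (k - 1) = 1 by omega, pow_one]
      refine hu ?_
      have h2 : u⁻¹ * t * u⁻¹⁻¹ ∈ R := by
        rw [inv_inv, ht]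
        have h3 : u⁻¹ * s ^ (2 ^ (k - 1)) * u = (u⁻¹ * s * u) ^ (2 ^ (k - 1)) := by
          have := map_pow (MulAut.conj u⁻¹) s (2 ^ (k - 1))
          simpa using this
        rw [h3]
        exact pow_mem h1 _
      simpa using hse u⁻¹ t (hPR (pow_mem hsP _)) hto h2
  have := Nat.card_le_card_of_injective f hf
  rwa [Finite.card_option] at this

/-- The contradiction. -/
theorem not_stronglyEmbedded {n : ℕ} (hn : 3 ≤ n) (P : Sylow 2 L)
    (hP : Nonempty ((P : Subgroup L) ≃* DihedralGroup (2 ^ (n - 1)))) {R : Subgroup L}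
    (hPR : (P : Subgroup L) ≤ R) : ¬ Cfsg.IsStronglyEmbedded R := by
  intro hR
  haveI := Fact.mk Nat.prime_two
  have hse := Involution.stronglyEmbedded_iff.mp hR
  obtain ⟨g, hg⟩ : ∃ g, g ∉ R := by
    by_contra h
    push Not at h
    exact hse.1 (eq_top_iff.mpr fun x _ => h x)
  obtain ⟨e⟩ := hP
  haveI := Fintype.ofFinite L
  haveI : NeZero (2 ^ (n - 1)) := ⟨by positivity⟩
  set σ : L := ((e.symm (DihedralGroup.r 1) : (P : Subgroup L)) : L) with hσdef
  have hσP : σ ∈ (P : Subgroup L) := SetLike.coe_mem _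
  have hσo : orderOf σ = 2 ^ (n - 1) := by
    rw [hσdef, Subgroup.orderOf_coe, MulEquiv.orderOf_eq, DihedralGroup.orderOf_r_one]
  obtain ⟨τ, S⟩ := ZStar.Dih.exists_setup hn P e hσP hσo
  set j := σ ^ (2 ^ (n - 2)) with hj
  have hjo : orderOf j = 2 := by
    rw [hj, orderOf_pow' σ (by positivity), hσo, Nat.gcd_eq_right (pow_dvd_pow 2 (by omega)),
      Nat.pow_div (by omega) two_pos, show n - 1 - (n - 2) = 1 by omega, pow_one]
  have hστ : orderOf (σ * τ) = 2 := by
    have h2 := Involution.mul_self_of_orderOf S.inv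
    refine Involution.orderOf_eq_two_iff'.mpr ⟨?_, fun h => ?_⟩
    · calc σ * τ * (σ * τ) = σ * (τ * σ * τ⁻¹) * (τ * τ) := by group
        _ = 1 := by rw [S.rel, h2]; group
    · have hτ : τ = σ⁻¹ := (inv_eq_of_mul_eq_one_right h).symm
      have ho : orderOf σ = 2 := by rw [← orderOf_inv, ← hτ, S.inv]
      have h4 : 2 ^ 2 ≤ 2 ^ (n - 1) := Nat.pow_le_pow_right two_pos (by omega)
      omega
  set u := g * j * g⁻¹ with hu
  have huR : u ∉ R := fun h => hg (hse.2.2 g j (hPR (pow_mem hσP _)) hjo h)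
  have huo : orderOf u = 2 := by rw [hu, Involution.orderOf_conj, hjo]
  have hconjL : ∀ a b : L, orderOf a = 2 → orderOf b = 2 → IsConj a b :=
    (S1225.result R hR u huo huR j j hjo (hPR (pow_mem hσP _)) hjo (hPR (pow_mem hσP _))).2
  have hconjR : ∀ a b : R, orderOf a = 2 → orderOf b = 2 → IsConj a b := fun a b ha hb => by
    obtain ⟨d, hd, hdab⟩ := (S1225.result R hR u huo huR (a : L) b (by rwa [Subgroup.orderOf_coe])
      a.2 (by rwa [Subgroup.orderOf_coe]) b.2).1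
    exact isConj_iff.mpr ⟨⟨d, (mem_inf.mp hd).1⟩, Subtype.ext hdab⟩
  obtain ⟨x, δ, hδ, hne, h4, hL⟩ :=
    exists_order_formula hn P ⟨e⟩ S ⟨hconjL _ _ hjo S.inv, hconjL _ _ hjo hστ⟩
  -- the same inside `R`
  set σ' : R := ⟨σ, hPR hσP⟩ with hσ'
  set τ' : R := ⟨τ, hPR S.hτ⟩ with hτ'
  set PR : Sylow 2 R := P.subtype hPR with hPRdef
  have hPR' : (PR : Subgroup R) = (P : Subgroup L).subgroupOf R := P.coe_subtype hPR
  have SR : ZStar.Dih.Setup PR n σ' τ' := by
    refine ⟨hn, ?_, ?_, ?_, ?_, Subtype.ext S.rel, ?_⟩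
    · rw [hPR']; exact hσP
    · rw [hPR']; exact S.hτ
    · rw [hσ', Subgroup.orderOf_mk, hσo]
    · rw [hτ', Subgroup.orderOf_mk, S.inv]
    · apply map_injective R.subtype_injective
      rw [hPR', map_subgroupOf_eq_of_le hPR, MonoidHom.map_closure, ← S.gen]
      simp [Set.image_insert_eq, hσ', hτ']
  have hPRiso : Nonempty ((PR : Subgroup R) ≃* DihedralGroup (2 ^ (n - 1))) := by
    rw [hPR']
    exact ⟨(subgroupOfEquivOfLe hPR).trans e⟩
  have hj' : orderOf (σ' ^ (2 ^ (n - 2))) = 2 := by rw [← Subgroup.orderOf_coe]; simpa [hσ'] using hjo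
  have hστ' : orderOf (σ' * τ') = 2 := by rw [← Subgroup.orderOf_coe]; simpa [hσ', hτ'] using hστ
  obtain ⟨y, ε, hε, hne', h4', hR'⟩ :=
    exists_order_formula hn PR hPRiso SR ⟨hconjR _ _ hj' SR.inv, hconjR _ _ hj' hστ'⟩
  have hcent : centralizer ({j} : Set L) ≤ R :=
    ((Involution.stronglyEmbedded_iff_centralizers hse.1 hse.2.1).mp hR).1 j
      (hPR (pow_mem hσP _)) hjo
  have hcard : ∀ (s : Set L) (s' : Set R), j ∈ s → Subtype.val '' s' = s →
      Nat.card (centralizer s') = Nat.card (centralizer s) := by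
    intro s s' hjs hs
    have hle : centralizer s ≤ R := (centralizer_le (Set.singleton_subset_iff.mpr hjs)).trans hcent
    rw [← Nat.card_congr (subgroupOfEquivOfLe hle).toEquiv]
    congr 1
    have : centralizer s' = (centralizer s).subgroupOf R := by
      ext z
      simp only [mem_subgroupOf, mem_centralizer_iff, ← hs, Set.forall_mem_image, Subtype.ext_iff,
        Subgroup.coe_mul]
    rw [this]
  rw [hcard {j} _ rfl (by simp [hσ', hj]),
    hcard {j, τ} _ (by simp) (by simp [Set.image_insert_eq, hσ', hτ', hj]),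
    hcard {j, σ * τ} _ (by simp) (by simp [Set.image_insert_eq, hσ', hτ', hj])] at hR'
  rw [← hj] at hL
  set C : ℚ := (Nat.card (centralizer ({j} : Set L)) : ℚ) ^ 3 *
    (1 / (Nat.card (centralizer ({j, τ} : Set L)) : ℚ) +
      1 / (Nat.card (centralizer ({j, σ * τ} : Set L)) : ℚ)) ^ 2 with hC
  have hCpos : 0 < C := by
    have hp : ∀ s : Set L, (0 : ℚ) < Nat.card (centralizer s) := fun s => by exact_mod_cast Nat.card_pos
    rw [hC]
    have := hp {j}
    have := hp {j, τ}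
    have := hp {j, σ * τ}
    positivity
  obtain ⟨a1, a2, a3⟩ := bounds hδ hne h4
  obtain ⟨b1, b2, b3⟩ := bounds hε hne' h4'
  have hidx := card_add_one_le_index hR P.2 hPR huR
  have hP8 : 8 ≤ Nat.card (P : Subgroup L) := by
    rw [Nat.card_congr e.toEquiv, DihedralGroup.nat_card]
    have : 2 ^ 2 ≤ 2 ^ (n - 1) := Nat.pow_le_pow_right two_pos (by omega)
    omega
  have hmul : (Nat.card L : ℚ) = Nat.card R * R.index := by exact_mod_cast (card_mul_index R).symm
  have h9 : (9 : ℚ) ≤ R.index := by exact_mod_cast (le_trans (by omega) hidx : 9 ≤ R.index)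
  have hRpos : (0 : ℚ) < Nat.card R := by exact_mod_cast Nat.card_pos
  have u1 : 4 * (Nat.card L : ℚ) ≤ 15 * C := by
    refine le_of_mul_le_mul_right ?_ a3
    nlinarith [mul_le_mul_of_nonneg_left a2 hCpos.le]
  have u2 : 3 * C ≤ 4 * (Nat.card R : ℚ) := by
    refine le_of_mul_le_mul_right ?_ b3
    nlinarith [mul_le_mul_of_nonneg_left b1 hCpos.le]
  nlinarith [mul_le_mul_of_nonneg_left h9 hRpos.le]

end Cfsg.Agent.ProdFus42
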