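import Cfsg.Agent.ProdFus42.Functor
import Cfsg.Agent.ProdFus42.SE

/-!
# The value at an involution of the second kind depends on that involution only
-/

set_option autoImplicit false
set_option linter.style.haveILetI false
set_option linter.unusedSectionVars false

namespace Cfsg.Agent.ProdFus42

open Subgroup Coprime
open scoped Pointwise commutatorElement

universe u

variable {G : Type u} [Group G] [Finite G] (D : Hyp G)

/-- Every involution of the first kind in a 2-subgroup `R` lies in a four-group centralised by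
the involutions of the second kind in `R`. -/
theorem exists_four {R : Subgroup G} (hR : IsPGroup 2 R) {x : G} (hx : x ∈ D.X₁) (hxR : x ∈ R) :
    ∃ E, IsFourIn D.X₁ E ∧ x ∈ E ∧ ∀ y ∈ D.X₂, y ∈ R → E ≤ centralizer {y} := by
  obtain ⟨g, hg⟩ := D.exists_conj hR
  have hxS := (D.conj g).mem_S₁ (by rw [D.X₁_conj]; exact hx) (hg hxR)
  obtain ⟨u, hu, huo, hux, hcomm⟩ := (D.conj g).dih₁.exists_commuting hxS hx.1
  have huX : u ∈ D.X₁ := by rw [← D.X₁_conj g]; exact (D.conj g).mem_X₁ hu huo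
  refine ⟨_, D.isFourIn hx huX hcomm (Ne.symm hux), subset_closure (by simp), fun y hy hyR => ?_⟩
  have hyS := (D.conj g).mem_S₂ (by rw [D.X₂_conj]; exact hy) (hg hyR)
  refine (closure_le _).mpr ?_
  rintro z (rfl | rfl)
  · exact mem_centralizer_singleton_iff.mpr ((D.conj g).comm z hxS y hyS)
  · exact mem_centralizer_singleton_iff.mpr ((D.conj g).comm z hu y hyS)

theorem exists_four_pair {x f : G} (hx : x ∈ D.X₁) (hf : f ∈ D.X₂) (hxf : x * f = f * x) :
    ∃ E, IsFourIn D.X₁ E ∧ x ∈ E ∧ E ≤ centralizer {f} := by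
  obtain ⟨E, hE, hxE, hcomm⟩ := exists_four D (Hyp.isPGroup_pair hx.1 hf.1 hxf) hx
    (subset_closure (by simp))
  exact ⟨E, hE, hxE, hcomm f hf (subset_closure (by simp))⟩

theorem oc_le_normalizer_phi {x f : G} (hx : x ∈ D.X₁) (hf : f ∈ D.X₂) (hxf : x * f = f * x) :
    oc f ≤ normalizer (phi f x : Set G) := by
  obtain ⟨E, hE, hxE, hEf⟩ := exists_four_pair D hx hf hxf
  rw [← psi_eq_phi D hE hEf hxE (Involution.ne_one_of_orderOf hx.1)]
  exact oc_le_normalizer_psi D hE hEf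

theorem phi_eq_of_commute {x x' f : G} (hx : x ∈ D.X₁) (hx' : x' ∈ D.X₁) (hxf : x * f = f * x)
    (hx'f : x' * f = f * x') (hc : x * x' = x' * x) : phi f x = phi f x' := by
  rcases eq_or_ne x x' with rfl | hne
  · rfl
  have hE := D.isFourIn hx hx' hc hne
  have hEf : Subgroup.closure ({x, x'} : Set G) ≤ centralizer {f} := (closure_le _).mpr (by
    rintro z (rfl | rfl)
    · exact mem_centralizer_singleton_iff.mpr hxf
    · exact mem_centralizer_singleton_iff.mpr hx'f)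
  rw [← psi_eq_phi D hE hEf (subset_closure (by simp)) (Involution.ne_one_of_orderOf hx.1),
    ← psi_eq_phi D hE hEf (subset_closure (by simp)) (Involution.ne_one_of_orderOf hx'.1)]

theorem mem_normalizer_of_map_eq {K : Subgroup G} {g : G}
    (h : K.map (MulAut.conj g).toMonoidHom = K) : g ∈ normalizer (K : Set G) := by
  refine mem_normalizer_iff.mpr fun y => ⟨fun hy => h ▸ mem_map_of_mem _ hy, fun hy => ?_⟩
  rw [← h] at hy
  obtain ⟨z, hz, hzy⟩ := hy
  exact (MulAut.conj g).injective hzy ▸ hz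

theorem map_eq_of_mem_normalizer {K : Subgroup G} {g : G} (h : g ∈ normalizer (K : Set G)) :
    K.map (MulAut.conj g).toMonoidHom = K := by
  ext y
  refine ⟨?_, fun hy => ⟨g⁻¹ * y * g, conj_mem_of_mem_normalizer' h hy, by simp [mul_assoc]⟩⟩
  rintro ⟨z, hz, rfl⟩
  exact conj_mem_of_mem_normalizer h hz

/-- Commuting modulo `O(C(f))` suffices. -/
theorem phi_eq_of_cmk_commute {f : G} (hf : f ∈ D.X₂) {x x' : ↥(centralizer ({f} : Set G))}
    (hx : (x : G) ∈ D.X₁) (hx' : (x' : G) ∈ D.X₁) (hc : Commute (cmk f x) (cmk f x')) :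
    phi f (x : G) = phi f (x' : G) := by
  have hxf : (x : G) * f = f * x := mem_centralizer_singleton_iff.mp x.2
  have hx'f : (x' : G) * f = f * x' := mem_centralizer_singleton_iff.mp x'.2
  have hxo : orderOf x = 2 := by rw [← Subgroup.orderOf_coe]; exact hx.1
  have hcop : (Nat.card (zpowers x)).Coprime (Nat.card (pPrimeCore 2 ↥(centralizer ({f} : Set G)))) := by
    rw [Nat.card_zpowers, hxo]; exact Thompson.card_pPrimeCore_coprime.symm
  have hsolv : ∀ y : ↥(centralizer ({f} : Set G)), Group.IsSolvable (zpowers y) := fun y =>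
    Group.isSolvable_of_comm fun a b => mul_comm' a b
  obtain ⟨n, hn, hxn⟩ := exists_fixed_in_coset (zpowers x) (pPrimeCore 2 ↥(centralizer ({f} : Set G)))
    (by simp [Subgroup.normalizer_eq_top]) hcop (Or.inl (hsolv x)) x' (fun z hz => by
      rw [← QuotientGroup.eq_one_iff (N := pPrimeCore 2 ↥(centralizer ({f} : Set G)))]
      obtain ⟨i, rfl⟩ := mem_zpowers_iff.mp hz
      have h2 := (hc.zpow_left i).eq
      rw [← map_zpow] at h2
      simp only [QuotientGroup.mk'_apply] at h2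
      simp only [QuotientGroup.mk_mul, QuotientGroup.mk_inv]
      rw [h2, mul_inv_cancel_right, inv_mul_cancel])
  have hx'o : orderOf x' = 2 := by rw [← Subgroup.orderOf_coe]; exact hx'.1
  obtain ⟨o, ho, hox⟩ := exists_conj_le_of_le_sup (zpowers x') (pPrimeCore 2 ↥(centralizer ({f} : Set G)))
    (centralizer (zpowers x : Set ↥(centralizer ({f} : Set G)))) (by simp [Subgroup.normalizer_eq_top])
    (by simp [Subgroup.normalizer_eq_top])
    (by rw [Nat.card_zpowers, hx'o]; exact Thompson.card_pPrimeCore_coprime.symm)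
    (Or.inl (hsolv x')) (zpowers_le.mpr (by
      have h4 := mul_mem (mem_sup_right hxn :
        x' * n ∈ pPrimeCore 2 ↥(centralizer ({f} : Set G)) ⊔ centralizer (zpowers x : Set ↥(centralizer ({f} : Set G)))) (mem_sup_left (inv_mem hn))
      rwa [mul_inv_cancel_right] at h4))
  have hox' := hox x' (mem_zpowers _)
  set o' : G := (o : G) with ho'
  have hcomm : (x : G) * (o' * x' * o'⁻¹) = o' * x' * o'⁻¹ * x :=
    congrArg Subtype.val (mem_centralizer_iff.mp hox' x (mem_zpowers x))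
  have hoo : o' ∈ oc f := ⟨o, ho, rfl⟩
  have hof : o' * f = f * o' := oc_comm hoo
  have hcf : o' * (x' : G) * o'⁻¹ * f = f * (o' * x' * o'⁻¹) :=
    mem_centralizer_singleton_iff.mp (o * x' * o⁻¹).2
  rw [phi_eq_of_commute D hx (invClass_conj o' hx') hxf hcf hcomm]
  have h := map_eq_of_mem_normalizer (oc_le_normalizer_phi D hx' hf hx'f hoo)
  rwa [map_conj_phi, hof, mul_inv_cancel_right] at h

theorem phi_eq_base {f : G} (hf : f ∈ D.X₂) {n : ℕ} (hn : 3 ≤ n)
    (he : Nonempty (D.S₁ ≃* DihedralGroup (2 ^ (n - 1))))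
    (hfull : ∀ Q : Subgroup G, IsPGroup 2 Q → Q ≤ centralizer {f} →
      (D.P : Subgroup G) ⊓ centralizer {f} ≤ Q → Q ≤ (D.P : Subgroup G))
    (hfP : f ∈ (D.P : Subgroup G)) {z : G} (hz : z ∈ D.C₁) (hzo : orderOf z = 2) {x : G}
    (hx : x ∈ D.X₁) (hxf : x * f = f * x) : phi f x = phi f z := by
  haveI := Fact.mk Nat.prime_two
  set H := centralizer ({f} : Set G) with hH
  have hfS : f ∈ D.S₂ := D.mem_S₂ hf hfP
  have hS₁H : D.S₁ ≤ H := fun a ha => mem_centralizer_singleton_iff.mpr (D.comm a ha f hfS)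
  have hzS : z ∈ D.S₁ := D.dih₁.le hz
  have hzf : z * f = f * z := D.comm z hzS f hfS
  set φ₀ := phi f z with hφ₀
  have hinv : ∀ a ∈ D.S₁, orderOf a = 2 → phi f a = φ₀ := fun a ha hao =>
    phi_eq_of_commute D (D.mem_X₁ ha hao) (D.mem_X₁ hzS hzo) (D.comm a ha f hfS) hzf
      (D.dih₁.central_cyclic_invol hz hzo ha)
  -- a Sylow subgroup of `H`
  obtain ⟨T, hT⟩ := ((D.P.isPGroup'.to_le inf_le_left).of_equiv
    (subgroupOfEquivOfLe (inf_le_right : (D.P : Subgroup G) ⊓ H ≤ H)).symm).exists_le_sylow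
  have hTP : ∀ t : H, t ∈ T → (t : G) ∈ (D.P : Subgroup G) := fun t ht =>
    hfull _ (T.isPGroup'.map H.subtype) (map_subtype_le _)
      (fun y hy => ⟨⟨y, (mem_inf.mp hy).2⟩, hT hy, rfl⟩) (mem_map_of_mem _ ht)
  have hPT : ∀ t : H, (t : G) ∈ (D.P : Subgroup G) → t ∈ T := fun t ht => hT (mem_inf.mpr ⟨ht, t.2⟩)
  have hconjT : ∀ y : H, orderOf (y : G) = 2 → ∃ k : H, k * y * k⁻¹ ∈ T := by
    intro y hy
    have h2 : IsPGroup 2 (zpowers y) := IsPGroup.of_card (n := 1) (by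
      rw [Nat.card_zpowers, ← Subgroup.orderOf_coe, hy, pow_one])
    obtain ⟨Q, hQ⟩ := h2.exists_le_sylow
    obtain ⟨k, hk⟩ := MulAction.exists_smul_eq H Q T
    exact ⟨k, hk ▸ Involution.conj_mem_sylow_smul k (hQ (mem_zpowers y))⟩
  -- the normal 2-subgroup of the second kind
  obtain ⟨N, C, hN, -, hN2, -, hX, hY, hgen⟩ := local_data_one D.swap hf
  haveI := hN
  set ψ := cmk f with hψ
  have hinjT : ∀ t : H, t ∈ T → ψ t = 1 → t = 1 := fun t ht h =>
    eq_one_of_odd_of_mem T.isPGroup' (by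
      rw [← Subgroup.orderOf_coe]; exact odd_orderOf_oc (mem_oc_iff.mpr h)) ht
  -- involutions whose image lies in that of `T`
  have hlift : ∀ y : H, orderOf (y : G) = 2 → ψ y ∈ (T : Subgroup H).map ψ →
      ∃ t ∈ T, ψ t = ψ y ∧ ∃ o : H, o * y * o⁻¹ = t := by
    rintro y hy ⟨t, ht, hty⟩
    have hy2 : y * y = 1 := Subtype.ext (Involution.mul_self_of_orderOf hy)
    have ht2 : t * t = 1 := hinjT _ (mul_mem ht ht) (by rw [map_mul, hty, ← map_mul, hy2, map_one])
    have hodd : Odd (orderOf (y * t)) := by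
      rw [← Subgroup.orderOf_coe]
      refine odd_orderOf_oc (mem_oc_iff.mpr ?_)
      rw [← hψ, map_mul, hty, ← map_mul, hy2, map_one]
    obtain ⟨d, hd⟩ := Involution.exists_conj_of_odd hy2 ht2 hodd
    exact ⟨t, ht, hty, (y * t) ^ d, hd⟩
  -- `N` is the image of `C_{S₂}(f)`
  have hNT : N ≤ (T : Subgroup H).map ψ := by
    exact (Thompson.le_pCore hN hN2).trans
      (Thompson.pCore_le_sylow (T.mapSurjective (QuotientGroup.mk'_surjective (pPrimeCore 2 H))))
  have hNS : ∀ v ∈ N, ∃ b : H, (b : G) ∈ D.S₂ ∧ ψ b = v := by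
    intro v hv
    have hle : N ≤ (D.S₂.subgroupOf H).map ψ := by
      refine hgen.trans ((closure_le _).mpr ?_)
      rintro _ ⟨y, hy, rfl⟩
      obtain ⟨t, ht, hty, o, ho⟩ := hlift y hy.1 (hNT (hX y hy))
      refine ⟨t, ?_, hty⟩
      refine D.mem_S₂ ?_ (hTP t ht)
      rw [← ho]
      exact invClass_conj (o : G) hy
    obtain ⟨b, hb, hbv⟩ := hle hv
    exact ⟨b, hb, hbv⟩
  have hSN : ∀ b : H, (b : G) ∈ D.S₂ → ψ b ∈ N := by
    obtain ⟨C', hd, -⟩ := D.dih₂.centralizer_invol hfS hf.1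
    have hout : ∀ b : H, (b : G) ∈ D.S₂ → (b : G) ∉ C' → ψ b ∈ N := fun b hb hbC =>
      hX b (D.mem_X₂ hb (Involution.orderOf_eq_two_iff'.mpr
        ⟨hd.sq _ (mem_inf.mpr ⟨hb, b.2⟩) hbC, fun h1 => hbC (h1 ▸ one_mem C')⟩))
    intro b hb
    by_cases hbC : (b : G) ∈ C'
    · obtain ⟨w, hw, hwC⟩ := hd.out
      let w' : H := ⟨w, (mem_inf.mp hw).2⟩
      rw [show b = w'⁻¹ * (w' * b) by group, map_mul, map_inv]
      refine mul_mem (inv_mem (hout w' (mem_inf.mp hw).1 hwC))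
        (hout _ (mul_mem (mem_inf.mp hw).1 hb) fun h => hwC ?_)
      simpa [w'] using mul_mem h (inv_mem hbC)
    · exact hout b hb hbC
  set K : Subgroup H := N.comap ψ with hK
  haveI : K.Normal := hN.comap ψ
  have hTK : ∀ t : H, t ∈ T → t ∈ K → (t : G) ∈ D.S₂ := by
    intro t ht htK
    obtain ⟨b, hb, hbt⟩ := hNS _ htK
    have h1 : b⁻¹ * t = 1 := hinjT _ (mul_mem (inv_mem (hPT b (D.le₂ hb))) ht)
      (by rw [map_mul, map_inv, hbt, inv_mul_cancel])
    rw [inv_mul_eq_one] at h1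
    exact h1 ▸ hb
  have hS₁K : ∀ a : H, (a : G) ∈ D.S₁ → a ∈ K → a = 1 := fun a ha haK => by
    have h : (a : G) ∈ D.S₁ ⊓ D.S₂ := mem_inf.mpr ⟨ha, hTK a (hPT a (D.le₁ ha)) haK⟩
    rw [D.disj, mem_bot] at h
    exact Subtype.ext h
  -- the stabiliser of `φ₀`
  have hmap : ∀ k : H, ∀ y : G, (phi f y).map (MulAut.conj (k : G)).toMonoidHom =
      phi f (k * y * (k : G)⁻¹) := fun k y => by
    rw [map_conj_phi, mem_centralizer_singleton_iff.mp k.2, mul_inv_cancel_right]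
  set Rh : Subgroup H := (normalizer (φ₀ : Set G)).subgroupOf H with hRh
  have hmemR : ∀ k : H, phi f ((k : G) * z * (k : G)⁻¹) = φ₀ → k ∈ Rh := fun k hk =>
    mem_normalizer_of_map_eq (g := (k : G)) (by rw [hmap]; exact hk)
  have hTR : (T : Subgroup H) ≤ Rh := by
    intro t ht
    obtain ⟨a, ha, b, hb, hab⟩ := D.exists_mul_of_mem (hTP t ht)
    refine hmemR t ?_
    rw [← hab, show a * b * z * (a * b)⁻¹ = a * (b * z * b⁻¹) * a⁻¹ by group,
      ← D.comm z hzS b hb, mul_inv_cancel_right,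
      D.dih₁.central_cyclic_invol hz hzo ha, mul_inv_cancel_right]
  have hKR : K ≤ Rh := by
    intro k hk
    obtain ⟨b, hb, hbk⟩ := hNS _ hk
    have h1 : ((b⁻¹ * k : H) : G) ∈ oc f := mem_oc_iff.mpr (by
      rw [← hψ, map_mul, map_inv, hbk, inv_mul_cancel])
    have h2 : b⁻¹ * k ∈ Rh := oc_le_normalizer_phi D (D.mem_X₁ hzS hzo) hf hzf h1
    simpa using mul_mem (hTR (hPT b (D.le₂ hb))) h2
  by_cases htop : Rh = ⊤
  · set x' : H := ⟨x, mem_centralizer_singleton_iff.mpr hxf⟩ with hx'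
    obtain ⟨k, hk⟩ := hconjT x' hx.1
    have h1 : ((k * x' * k⁻¹ : H) : G) ∈ D.S₁ :=
      D.mem_S₁ (invClass_conj (k : G) hx) (hTP _ hk)
    have h2 := hinv _ h1 ((Involution.orderOf_conj (k : G) x).trans hx.1)
    have h3 : (phi f x).map (MulAut.conj (k : G)).toMonoidHom =
        φ₀.map (MulAut.conj (k : G)).toMonoidHom := by
      rw [hmap, map_eq_of_mem_normalizer (show (k : G) ∈ normalizer (φ₀ : Set G) from
        (show k ∈ Rh by rw [htop]; trivial))]
      exact h2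
    exact map_injective (MulAut.conj (k : G)).injective h3
  exfalso
  set q := QuotientGroup.mk' K with hq
  have hqs : Function.Surjective q := QuotientGroup.mk'_surjective K
  set TL : Sylow 2 (H ⧸ K) := T.mapSurjective hqs with hTL
  have hTLmem : ∀ s ∈ TL, ∃ a : H, (a : G) ∈ D.S₁ ∧ q a = s := by
    intro s hs
    obtain ⟨t, ht, rfl⟩ := hs
    obtain ⟨a, ha, b, hb, hab⟩ := D.exists_mul_of_mem (hTP t ht)
    let a' : H := ⟨a, hS₁H ha⟩
    refine ⟨a', ha, ?_⟩
    have hb' : a'⁻¹ * t ∈ K := by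
      refine hSN _ ?_
      rw [show ((a'⁻¹ * t : H) : G) = a⁻¹ * (t : G) from rfl, ← hab, inv_mul_cancel_left]
      exact hb
    exact QuotientGroup.eq.mpr hb'
  let ι : D.S₁ →* (TL : Subgroup (H ⧸ K)) :=
    (q.comp (inclusion hS₁H)).codRestrict _ fun a => ⟨inclusion hS₁H a, hPT _ (D.le₁ a.2), rfl⟩
  have hι : Function.Bijective ι := by
    refine ⟨(injective_iff_map_eq_one _).mpr fun a ha => ?_, fun s => ?_⟩
    · have h1 := hS₁K (inclusion hS₁H a) a.2
        ((QuotientGroup.eq_one_iff _).mp (congrArg Subtype.val ha))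
      exact Subtype.ext (congrArg Subtype.val h1 :)
    · obtain ⟨a, ha, has⟩ := hTLmem s s.2
      exact ⟨⟨a, ha⟩, Subtype.ext has⟩
  obtain ⟨e⟩ := he
  have hTLR : (TL : Subgroup (H ⧸ K)) ≤ Rh.map q := map_mono hTR
  refine not_stronglyEmbedded hn TL ⟨(MulEquiv.ofBijective ι hι).symm.trans e⟩ hTLR
    (Involution.stronglyEmbedded_iff.mpr ⟨fun h => htop ?_, ?_, ?_⟩)
  · have h2 := comap_map_eq (f := q) Rh
    rw [h, comap_top, hq, QuotientGroup.ker_mk', sup_eq_left.mpr hKR] at h2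
    exact h2.symm
  · refine even_iff_two_dvd.mpr (dvd_trans ?_ (card_dvd_of_le hTLR))
    rw [← Nat.card_congr (MulEquiv.ofBijective ι hι).toEquiv, Nat.card_congr e.toEquiv,
      DihedralGroup.nat_card]
    exact dvd_mul_right _ _
  have hsmall : ∀ t ∈ Rh.map q, orderOf t = 2 →
      ∃ y : H, (y : G) ∈ D.X₁ ∧ q y = t ∧ phi f (y : G) = φ₀ := by
    intro t ht hto
    obtain ⟨Q, hQ⟩ := (IsPGroup.of_card (n := 1) (by
      rw [Nat.card_zpowers, Subgroup.orderOf_mk, hto, pow_one]) :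
      IsPGroup 2 (zpowers (⟨t, ht⟩ : Rh.map q))).exists_le_sylow
    obtain ⟨r, hr⟩ := MulAction.exists_smul_eq (Rh.map q) Q (TL.subtype hTLR)
    have hmem : r * ⟨t, ht⟩ * r⁻¹ ∈ TL.subtype hTLR :=
      hr ▸ Involution.conj_mem_sylow_smul r (hQ (mem_zpowers _))
    obtain ⟨k, hk, hkr⟩ := r.2
    obtain ⟨a, ha, hat⟩ := hTLmem ((r : H ⧸ K) * t * (r : H ⧸ K)⁻¹) hmem
    rw [← hkr] at hat
    have ha2 : a * a = 1 := hS₁K _ (mul_mem ha ha) (by
      refine (QuotientGroup.eq_one_iff _).mp ?_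
      rw [← QuotientGroup.mk'_apply, map_mul, ← hq, hat]
      rw [show q k * t * (q k)⁻¹ * (q k * t * (q k)⁻¹) = q k * (t * t) * (q k)⁻¹ by group,
        Involution.mul_self_of_orderOf hto]
      group)
    have ha1 : a ≠ 1 := fun h => Involution.ne_one_of_orderOf hto (by
      rw [h, map_one] at hat
      rw [show t = (q k)⁻¹ * (q k * t * (q k)⁻¹) * q k by group, ← hat]
      group)
    have hao : orderOf (a : G) = 2 := Involution.orderOf_eq_two_iff'.mpr
      ⟨congrArg Subtype.val ha2, fun h => ha1 (Subtype.ext h)⟩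
    refine ⟨k⁻¹ * a * k⁻¹⁻¹, invClass_conj _ (D.mem_X₁ ha hao), ?_, ?_⟩
    · rw [show k⁻¹⁻¹ = k from inv_inv k, map_mul, map_mul, map_inv, hat]
      group
    · rw [show ((k⁻¹ * a * k⁻¹⁻¹ : H) : G) = ((k⁻¹ : H) : G) * (a : G) * ((k⁻¹ : H) : G)⁻¹ from rfl,
        ← hmap, hinv _ ha hao,
        map_eq_of_mem_normalizer (show ((k⁻¹ : H) : G) ∈ normalizer (φ₀ : Set G) from
          (inv_mem hk : k⁻¹ ∈ Rh))]
  intro g t ht hto hgt
  obtain ⟨y, hy, hyt, hyφ⟩ := hsmall t ht hto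
  obtain ⟨y', hy', hy't, hy'φ⟩ := hsmall _ hgt (by rw [Involution.orderOf_conj, hto])
  obtain ⟨k, rfl⟩ := hqs g
  refine mem_map_of_mem q ?_
  set y'' : H := k * y * k⁻¹ with hy''
  have hy''X : (y'' : G) ∈ D.X₁ := invClass_conj (k : G) hy
  have hmod : y''⁻¹ * y' ∈ K := QuotientGroup.eq.mp (show q y'' = q y' by
    rw [hy'', map_mul, map_mul, map_inv, hyt, hy't])
  have hv : ψ y''⁻¹ * ψ y' ∈ N := by rw [← map_mul]; exact hmod
  have hc0 : Commute (ψ y''⁻¹ * ψ y') (ψ y'') :=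
    (mem_centralizer_iff.mp (hY y'' hy''X) _ hv)
  have hc : Commute (ψ y'') (ψ y') := by
    have := (Commute.refl (ψ y'')).mul_right hc0.symm
    rwa [map_inv, mul_inv_cancel_left] at this
  have hk2 : phi f ((k : G) * (y : G) * (k : G)⁻¹) = φ₀ :=
    (phi_eq_of_cmk_commute D hf hy''X hy' hc).trans hy'φ
  rw [← hmap, hyφ] at hk2
  exact mem_normalizer_of_map_eq hk2

/-- If the first factor is nonabelian, `phi f x` depends on `f` only. -/
theorem phi_eq_of_nonabelian {n : ℕ} (hn : 3 ≤ n)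
    (he : Nonempty (D.S₁ ≃* DihedralGroup (2 ^ (n - 1)))) {f x x' : G} (hf : f ∈ D.X₂)
    (hx : x ∈ D.X₁) (hx' : x' ∈ D.X₁) (hxf : x * f = f * x) (hx'f : x' * f = f * x') :
    phi f x = phi f x' := by
  haveI := Fact.mk Nat.prime_two
  set H := centralizer ({f} : Set G) with hH
  let f' : H := ⟨f, mem_centralizer_singleton_iff.mpr rfl⟩
  have h2 : IsPGroup 2 (zpowers f') := IsPGroup.of_card (n := 1) (by
    rw [Nat.card_zpowers, ← Subgroup.orderOf_coe, pow_one]
    exact hf.1)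
  obtain ⟨T, hT⟩ := h2.exists_le_sylow
  obtain ⟨g, hg⟩ := D.exists_conj (T.isPGroup'.map H.subtype)
  have hfP : f ∈ ((D.conj g).P : Subgroup G) := hg ⟨f', hT (mem_zpowers f'), rfl⟩
  have hfull : ∀ Q : Subgroup G, IsPGroup 2 Q → Q ≤ H →
      ((D.conj g).P : Subgroup G) ⊓ H ≤ Q → Q ≤ ((D.conj g).P : Subgroup G) := by
    intro Q hQ hQH hPQ y hy
    have heq : Q.subgroupOf H = (T : Subgroup H) := T.is_maximal'
      (hQ.of_equiv (subgroupOfEquivOfLe hQH).symm) fun t ht =>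
        hPQ (mem_inf.mpr ⟨hg (mem_map_of_mem _ ht), t.2⟩)
    have h3 : (⟨y, hQH hy⟩ : H) ∈ Q.subgroupOf H := hy
    rw [heq] at h3
    exact hg ⟨_, h3, rfl⟩
  obtain ⟨z, hz, hzo⟩ := (D.conj g).dih₁.exists_invol
  have he' : Nonempty ((D.conj g).S₁ ≃* DihedralGroup (2 ^ (n - 1))) :=
    he.map fun e => (D.S₁.equivMapOfInjective _ (MulAut.conj g).injective).symm.trans e
  have hf' : f ∈ (D.conj g).X₂ := by rw [D.X₂_conj]; exact hf
  have key : ∀ y ∈ D.X₁, y * f = f * y → phi f y = phi f z := fun y hy hyf =>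
    phi_eq_base (D.conj g) hf' hn he' hfull hfP hz hzo (by rw [D.X₁_conj]; exact hy) hyf
  exact (key x hx hxf).trans (key x' hx' hx'f).symm

end Cfsg.Agent.ProdFus42
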