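import Cfsg.Agent.ProdFus42.Hyp
import Cfsg.Agent.ZStar.InvariantSylow
import Cfsg.Agent.Lib.Thompson.Cores

/-!
# A strongly closed dihedral subgroup with a central involution is normal
-/

set_option autoImplicit false
set_option linter.style.haveILetI false
set_option linter.unusedSectionVars false

namespace Cfsg.Agent.ProdFus42

open Subgroup Coprime
open scoped Pointwise commutatorElement

variable {G : Type*} [Group G] [Finite G]

/-- An element of odd order normalising a cyclic 2-group centralises it. -/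
theorem odd_commute_cyclic {K : Subgroup G} (hK : IsPGroup 2 K) [IsCyclic K] {u : G}
    (hu : Odd (orderOf u)) (hn : u ∈ normalizer (K : Set G)) {k : G} (hk : k ∈ K) :
    u * k = k * u := by
  haveI := Fact.mk Nat.prime_two
  obtain ⟨n, hn2⟩ := IsPGroup.iff_card.mp hK
  rcases Nat.eq_zero_or_pos n with rfl | hpos
  · rw [pow_zero, card_eq_one] at hn2
    rw [hn2, mem_bot] at hk
    simp [hk]
  let u' : normalizer (K : Set G) := ⟨u, hn⟩
  have hcard : Nat.card (MulAut K) = 2 ^ (n - 1) := by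
    rw [IsCyclic.card_mulAut, hn2, Nat.totient_prime_pow Nat.prime_two hpos]
    simp
  have h1 : orderOf (K.normalizerMonoidHom u') ∣ orderOf u := by
    have h2 := orderOf_map_dvd K.normalizerMonoidHom u'
    rwa [Subgroup.orderOf_mk] at h2
  have h2 : orderOf (K.normalizerMonoidHom u') ∣ 2 ^ (n - 1) := hcard ▸ orderOf_dvd_natCard _
  have hone : K.normalizerMonoidHom u' = 1 := orderOf_eq_one_iff.mp
    (Nat.eq_one_of_dvd_coprimes ((Nat.coprime_two_right.mpr hu).pow_right (n - 1)) h1 h2)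
  have h3 := congrArg (fun f : MulAut K => ((f ⟨k, hk⟩ : K) : G)) hone
  have h4 : u * k * u⁻¹ = k := by simpa [u'] using h3
  exact mul_inv_eq_iff_eq_mul.mp h4

/-- An element of odd order is trivial in a 2-group. -/
theorem eq_one_of_odd_of_mem {K : Subgroup G} (hK : IsPGroup 2 K) {u : G}
    (hu : Odd (orderOf u)) (h : u ∈ K) : u = 1 := by
  obtain ⟨k, hk⟩ := hK ⟨u, h⟩
  have h2 : orderOf u ∣ 2 ^ k := orderOf_dvd_of_pow_eq_one (by
    simpa using congrArg Subtype.val hk)
  exact orderOf_eq_one_iff.mp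
    (Nat.eq_one_of_dvd_coprimes ((Nat.coprime_two_right.mpr hu).pow_right k) dvd_rfl h2)

theorem pPrimeCore_quotient_cyclic (hO : pPrimeCore 2 G = ⊥) (K : Subgroup G) [K.Normal]
    [IsCyclic K] (hK : IsPGroup 2 K) : pPrimeCore 2 (G ⧸ K) = ⊥ := by
  haveI := Fact.mk Nat.prime_two
  set q := QuotientGroup.mk' K with hq
  set M : Subgroup G := (pPrimeCore 2 (G ⧸ K)).comap q with hM
  have hKM : K ≤ M := fun k hk => by
    rw [hM, mem_comap, hq, QuotientGroup.mk'_apply, (QuotientGroup.eq_one_iff k).mpr hk]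
    exact one_mem _
  obtain ⟨n, hn⟩ := IsPGroup.iff_card.mp hK
  have hKc : Nat.card (K.subgroupOf M) = 2 ^ n := by
    rw [Nat.card_congr (subgroupOfEquivOfLe hKM).toEquiv, hn]
  have hidx : Nat.Coprime (Nat.card (K.subgroupOf M)) (K.subgroupOf M).index := by
    have h1 : Nat.card (K.subgroupOf M) * (K.subgroupOf M).index = Nat.card M := card_mul_index _
    have h2 : Nat.card M = Nat.card (pPrimeCore 2 (G ⧸ K)) * Nat.card K :=
      Thompson.card_comap_quotient K _
    rw [hKc] at h1 ⊢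
    rw [hn, mul_comm] at h2
    rw [h2, mul_comm (2 ^ n)] at h1
    rw [Nat.eq_of_mul_eq_mul_right (by positivity) (h1.trans (mul_comm _ _))]
    exact (Thompson.card_pPrimeCore_coprime (p := 2)).symm.pow_left n
  obtain ⟨U, hU⟩ := exists_right_complement'_of_coprime hidx
  have hUodd : Odd (Nat.card U) := by
    rw [← Nat.coprime_two_left]
    rw [hKc, hU.symm.index_eq_card] at hidx
    rcases Nat.eq_zero_or_pos n with rfl | hpos
    · have h2 : Nat.card M = Nat.card (pPrimeCore 2 (G ⧸ K)) * Nat.card K :=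
        Thompson.card_comap_quotient K _
      rw [hn, pow_zero, mul_one, ← hU.card_mul_card, hKc, pow_zero, one_mul] at h2
      rw [h2]
      exact Thompson.card_pPrimeCore_coprime.symm
    · exact (Nat.coprime_pow_left_iff hpos _ _).mp hidx
  set U' : Subgroup G := U.map M.subtype with hU'
  have hU'M : U' ≤ M := map_subtype_le _
  have hU'odd : Odd (Nat.card U') := by rw [hU', card_subtype]; exact hUodd
  have hmem : ∀ m ∈ M, Odd (orderOf m) → m ∈ U' := by
    intro m hm hmo
    obtain ⟨⟨⟨k, hk⟩, ⟨u, hu⟩⟩, hku⟩ := hU.2 ⟨m, hm⟩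
    have hku' : (k : G) * (u : G) = m := congrArg Subtype.val hku
    have huo : Odd (orderOf (u : G)) :=
      hU'odd.of_dvd_nat (U'.orderOf_dvd_natCard (mem_map_of_mem M.subtype hu))
    have hcomm : (u : G) * k = k * u := odd_commute_cyclic hK huo
      (by simp [Subgroup.normalizer_eq_top]) hk
    have hmc : Commute m (u : G) := by
      rw [← hku']
      exact (Commute.mul_left (Commute.symm hcomm) (Commute.refl _))
    have hk' : (k : G) = m * (u : G)⁻¹ := by rw [← hku']; group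
    have hko : Odd (orderOf (k : G)) := by
      rw [hk']
      exact (hmo.mul ((orderOf_inv (u : G)).symm ▸ huo)).of_dvd_nat
        ((hmc.inv_right).orderOf_mul_dvd_mul_orderOf)
    have hk1 : (k : G) = 1 := eq_one_of_odd_of_mem hK hko hk
    rw [← hku', hk1, one_mul]
    exact mem_map_of_mem M.subtype hu
  have hU'n : U'.Normal := ⟨fun x hx g => hmem _
    ((Thompson.instPPrimeCoreNormal.comap q).conj_mem x (hU'M hx) g) (by
    rw [show orderOf (g * x * g⁻¹) = orderOf x from Involution.orderOf_conj g x]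
    exact hU'odd.of_dvd_nat (U'.orderOf_dvd_natCard hx))⟩
  have hU'bot : U' = ⊥ := eq_bot_iff.mpr
    (hO ▸ Thompson.le_pPrimeCore hU'n (Nat.coprime_two_right.mpr hU'odd))
  rw [eq_bot_iff]
  intro x hx
  obtain ⟨g, rfl⟩ := QuotientGroup.mk'_surjective K x
  obtain ⟨⟨⟨k, hk⟩, ⟨u, hu⟩⟩, hku⟩ := hU.2 ⟨g, show g ∈ M from hx⟩
  have hu1 : (u : G) = 1 := by
    have := mem_map_of_mem M.subtype hu
    rwa [← hU', hU'bot, mem_bot] at this
  rw [mem_bot, QuotientGroup.mk'_apply, QuotientGroup.eq_one_iff]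
  have hku' : (k : G) * (u : G) = g := congrArg Subtype.val hku
  rw [← hku', hu1, mul_one]
  exact hk

/-- An involution of the quotient by a cyclic normal 2-subgroup whose lifts have a unique
image in every Sylow 2-subgroup is central. -/
theorem central_of_isolated {L : Type*} [Group L] [Finite L] (hO : pPrimeCore 2 L = ⊥) {u : L}
    (hu : orderOf u = 2) (hiso : IsIsolatedInvolution u) : u ∈ center L := by
  obtain ⟨N, hN, hodd, hc⟩ := ZStar.zStar hu (ZStar.oddComm_of_isolated hiso)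
  have hbot : N = ⊥ := eq_bot_iff.mpr
    (hO ▸ Thompson.le_pPrimeCore hN (Nat.coprime_two_right.mpr hodd))
  refine mem_center_iff.mpr fun g => ?_
  have h := hc g
  rw [hbot, mem_bot, mul_inv_eq_one] at h
  exact (mul_inv_eq_iff_eq_mul.mp h).symm

/-- The common step: if `c` lies outside the normal subgroup `K ≤ C` with `c² ∈ K`, and any two
conjugates of `c` inside `T` agree modulo `K`, then `K ⊔ ⟨c⟩` is normal. -/
theorem central_step (hO : pPrimeCore 2 G = ⊥) (T : Sylow 2 G) (K : Subgroup G) [K.Normal]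
    [IsCyclic K] (hK : IsPGroup 2 K) {c : G} (hcK : c ∉ K) (hc2 : c * c ∈ K) (_hcT : c ∈ T)
    (huniq : ∀ g h : G, g * c * g⁻¹ ∈ T → h * c * h⁻¹ ∈ T → (g * c * g⁻¹)⁻¹ * (h * c * h⁻¹) ∈ K) :
    ∀ g : G, g * c * g⁻¹ * c⁻¹ ∈ K := by
  haveI := Fact.mk Nat.prime_two
  set q := QuotientGroup.mk' K with hq
  have hqo : orderOf (q c) = 2 := by
    refine Involution.orderOf_eq_two_iff'.mpr ⟨?_, fun h => hcK ?_⟩
    · rw [← map_mul, hq, QuotientGroup.mk'_apply, QuotientGroup.eq_one_iff]; exact hc2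
    · rwa [hq, QuotientGroup.mk'_apply, QuotientGroup.eq_one_iff] at h
  have hiso : IsIsolatedInvolution (q c) := by
    refine ⟨hqo, fun x hx => ?_⟩
    obtain ⟨g, rfl⟩ := QuotientGroup.mk'_surjective K x
    have hqo' : orderOf (q g * q c * (q g)⁻¹) = 2 := by rw [Involution.orderOf_conj, hqo]
    set R := (Subgroup.closure ({q c, q g * q c * (q g)⁻¹} : Set (G ⧸ K))).comap q with hR
    have hR2 : IsPGroup 2 R := by
      refine (Involution.isPGroup_closure_pair_of_commute (Involution.mul_self_of_orderOf hqo)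
        (Involution.mul_self_of_orderOf hqo') hx).comap_of_ker_isPGroup q ?_
      rw [hq, QuotientGroup.ker_mk']
      exact hK
    obtain ⟨Q, hQ⟩ := hR2.exists_le_sylow
    obtain ⟨h, hh⟩ := MulAction.exists_smul_eq G Q T
    have hmem : ∀ y ∈ R, h * y * h⁻¹ ∈ T := fun y hy => hh ▸ Involution.conj_mem_sylow_smul h (hQ hy)
    have h1 : c ∈ R := by
      rw [hR, mem_comap]; exact subset_closure (by simp)
    have h2 : g * c * g⁻¹ ∈ R := by
      rw [hR, mem_comap, map_mul, map_mul, map_inv]; exact subset_closure (by simp)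
    have h3 := huniq h (h * g) (hmem c h1)
      (by rw [show h * g * c * (h * g)⁻¹ = h * (g * c * g⁻¹) * h⁻¹ by group]; exact hmem _ h2)
    rw [← QuotientGroup.eq_one_iff (N := K)] at h3
    have h4 : q h * q c * (q h)⁻¹ = q h * (q g * q c * (q g)⁻¹) * (q h)⁻¹ := by
      refine inv_mul_eq_one.mp ?_
      rw [← h3]
      simp [hq, QuotientGroup.mk'_apply, mul_assoc]
    exact ((mul_right_inj (q h)).mp ((mul_left_inj (q h)⁻¹).mp h4)).symm
  have hcent := central_of_isolated (pPrimeCore_quotient_cyclic hO K hK) hqo hiso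
  intro g
  rw [← QuotientGroup.eq_one_iff (N := K)]
  have := mem_center_iff.mp hcent (q g)
  simp only [hq, QuotientGroup.mk'_apply] at this
  simp only [QuotientGroup.mk_mul, QuotientGroup.mk_inv, this]
  group

/-- A strongly closed dihedral subgroup whose cyclic part contains a central involution of `G` is
normal, as is its cyclic part. -/
theorem normal_of_stronglyClosed (hO : pPrimeCore 2 G = ⊥) (T : Sylow 2 G) {S C : Subgroup G}
    (hd : DihLike S C) (hsc : IsStronglyClosed S (T : Subgroup G)) {b : G} (hb : b ∈ C)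
    (hbo : orderOf b = 2) (hbz : b ∈ center G) : S.Normal ∧ C.Normal := by
  haveI := Fact.mk Nat.prime_two
  haveI := hd.cyclic
  have hST : S ≤ (T : Subgroup G) := hsc.1
  have hC2 : IsPGroup 2 C := T.2.to_le (hd.le.trans hST)
  have hconj : ∀ x ∈ S, ∀ g : G, g * x * g⁻¹ ∈ T → g * x * g⁻¹ ∈ S := hsc.2
  classical
  let 𝒦 : Set (Subgroup G) := {K | K ≤ C ∧ K.Normal ∧ b ∈ K}
  have hz : (zpowers b : Subgroup G) ∈ 𝒦 := by
    refine ⟨zpowers_le.mpr hb, ⟨fun x hx g => ?_⟩, mem_zpowers b⟩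
    have : x ∈ center G := zpowers_le.mpr hbz hx
    rwa [mem_center_iff.mp this g, mul_inv_cancel_right]
  obtain ⟨K, hKmax⟩ := (Set.toFinite 𝒦).exists_maximal ⟨_, hz⟩
  obtain ⟨hKC, hKn, hbK⟩ := hKmax.prop
  haveI := hKn
  have hKc : IsCyclic K :=
    isCyclic_of_injective _ (inclusion_injective hKC)
  have hK2 : IsPGroup 2 K := hC2.to_le hKC
  set q := QuotientGroup.mk' K with hq
  -- uniqueness of involutions of `C / K`
  have huniqC : ∀ x ∈ C, ∀ y ∈ C, x ∉ K → y ∉ K → x * x ∈ K → y * y ∈ K → x⁻¹ * y ∈ K := by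
    intro x hx y hy hxK hyK hx2 hy2
    haveI : IsCyclic (C.map q) :=
      isCyclic_of_surjective (q.subgroupMap C) (q.subgroupMap_surjective C)
    have ho : ∀ z : G, z ∉ K → z * z ∈ K → orderOf (q z) = 2 := fun z hzK hz2 => by
      refine Involution.orderOf_eq_two_iff'.mpr ⟨?_, fun h => hzK ?_⟩
      · rw [← map_mul, hq, QuotientGroup.mk'_apply, QuotientGroup.eq_one_iff]; exact hz2
      · rwa [hq, QuotientGroup.mk'_apply, QuotientGroup.eq_one_iff] at h
    have h := congrArg Subtype.val (Involution.involution_unique_of_isCyclic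
      (a := (⟨q x, mem_map_of_mem q hx⟩ : C.map q)) (b := ⟨q y, mem_map_of_mem q hy⟩)
      (by rw [orderOf_mk]; exact ho x hxK hx2) (by rw [orderOf_mk]; exact ho y hyK hy2))
    exact QuotientGroup.eq.mp h
  have hKC' : K = C := by
    by_contra hne
    obtain ⟨c₀, hc₀, hc₀K⟩ := SetLike.exists_of_lt (lt_of_le_of_ne hKC hne)
    have hex : ∃ j, c₀ ^ (2 ^ j) ∈ K := by
      obtain ⟨j, hj⟩ := hC2 ⟨c₀, hc₀⟩
      refine ⟨j, ?_⟩
      rw [show c₀ ^ (2 ^ j) = 1 by simpa using congrArg Subtype.val hj]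
      exact one_mem K
    obtain ⟨j, hj⟩ : ∃ j, Nat.find hex = j + 1 := Nat.exists_eq_succ_of_ne_zero fun h => hc₀K (by
      have := Nat.find_spec hex
      rwa [h, pow_zero, pow_one] at this)
    set c := c₀ ^ (2 ^ j) with hc
    have hcC : c ∈ C := pow_mem hc₀ _
    have hcK : c ∉ K := Nat.find_min hex (by omega)
    have hc2 : c * c ∈ K := by
      rw [hc, ← pow_add, ← two_mul, ← pow_succ', ← hj]; exact Nat.find_spec hex
    have hc21 : c * c ≠ 1 := fun h => hcK (by
      rw [hd.unique hcC hb (Involution.orderOf_eq_two_iff'.mpr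
        ⟨h, fun h1 => hcK (h1 ▸ one_mem K)⟩) hbo]
      exact hbK)
    have hin : ∀ g : G, g * c * g⁻¹ ∈ T → g * c * g⁻¹ ∈ C := fun g hg => by
      by_contra hnot
      refine hc21 ?_
      have h := hd.sq _ (hconj c (hd.le hcC) g hg) hnot
      rw [show g * c * g⁻¹ * (g * c * g⁻¹) = g * (c * c) * g⁻¹ by group] at h
      rw [show c * c = g⁻¹ * (g * (c * c) * g⁻¹) * g by group, h]
      group
    have hnK : ∀ g : G, g * c * g⁻¹ ∉ K := fun g h => hcK (by
      simpa [mul_assoc] using hKn.conj_mem _ h g⁻¹)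
    have hsq : ∀ g : G, g * c * g⁻¹ * (g * c * g⁻¹) ∈ K := fun g => by
      rw [show g * c * g⁻¹ * (g * c * g⁻¹) = g * (c * c) * g⁻¹ by group]
      exact hKn.conj_mem _ hc2 g
    have hcomm := central_step hO T K hK2 hcK hc2 (hST (hd.le hcC)) fun g h hg hh =>
      huniqC _ (hin g hg) _ (hin h hh) (hnK g) (hnK h) (hsq g) (hsq h)
    refine hcK (hKmax.le_of_ge (y := K ⊔ zpowers c) ?_ le_sup_left
      (mem_sup_right (mem_zpowers c)))
    refine ⟨sup_le hKC (zpowers_le.mpr hcC), ⟨fun x hx g => ?_⟩, mem_sup_left hbK⟩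
    have hle : K ⊔ zpowers c ≤ (K ⊔ zpowers c).comap (MulAut.conj g).toMonoidHom := by
      refine sup_le (fun k hk => mem_sup_left (hKn.conj_mem k hk g)) (zpowers_le.mpr ?_)
      show g * c * g⁻¹ ∈ K ⊔ zpowers c
      rw [show g * c * g⁻¹ = (g * c * g⁻¹ * c⁻¹) * c by group]
      exact mul_mem (mem_sup_left (hcomm g)) (mem_sup_right (mem_zpowers c))
    exact hle hx
  subst hKC'
  obtain ⟨x, hxS, hxK⟩ := hd.out
  have hx2 : x * x ∈ K := by rw [hd.sq x hxS hxK]; exact one_mem _
  have hcomm := central_step hO T K hK2 hxK hx2 (hST hxS) fun g h hg hh => by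
    have hn : ∀ k : G, k * x * k⁻¹ ∉ K := fun k hk => hxK (by
      simpa [mul_assoc] using hKn.conj_mem _ hk k⁻¹)
    rw [← Involution.orderOf_eq_two_iff'.mpr ⟨?_, ?_⟩ |> fun h2 => (Involution.inv_of_orderOf h2).symm]
    · exact hd.mul _ (hconj x hxS g hg) _ (hconj x hxS h hh) (hn g) (hn h)
    · exact hd.sq _ (hconj x hxS g hg) (hn g)
    · exact fun h1 => hn g (h1 ▸ one_mem K)
  refine ⟨⟨fun y hy g => ?_⟩, hKn⟩
  by_cases hyK : y ∈ K
  · exact hd.le (hKn.conj_mem y hyK g)
  · have hxy : x * y ∈ K := hd.mul x hxS y hy hxK hyK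
    rw [show g * y * g⁻¹ = (g * x⁻¹ * g⁻¹) * (g * (x * y) * g⁻¹) by group]
    refine mul_mem ?_ (hd.le (hKn.conj_mem _ hxy g))
    rw [show g * x⁻¹ * g⁻¹ = ((g * x * g⁻¹ * x⁻¹) * x)⁻¹ by group]
    exact inv_mem (mul_mem (hd.le (hcomm g)) hxS)

end Cfsg.Agent.ProdFus42
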