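import Cfsg.Agent.ProdFus42.Local
import Cfsg.Agent.SFT45.Final

/-!
# The signalizer functor of a pair of commuting four-groups
-/

set_option autoImplicit false
set_option linter.style.haveILetI false
set_option linter.unusedSectionVars false

namespace Cfsg.Agent.ProdFus42

open Subgroup Coprime
open scoped Pointwise commutatorElement

variable {G : Type*} [Group G]

/-- The elements of `O(C(a))` fixed by `E` that lie in every `O(C(e))`. -/
def fixPart (E : Subgroup G) (a : G) : Subgroup G :=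
  oc a ⊓ centralizer (E : Set G) ⊓ ⨅ e : {e : G // e ∈ E ∧ e ≠ 1}, oc (e : G)

/-- One half of the functor. -/
def psi (E : Subgroup G) (a : G) : Subgroup G :=
  ⁅oc a, E⁆ ⊔ fixPart E a

/-- The value of the functor at an involution `f` of the second kind, seen from `x`. -/
def phi (f x : G) : Subgroup G :=
  ⁅oc f, zpowers x⁆ ⊔ (oc f ⊓ centralizer {x} ⊓ oc x)

theorem mem_fixPart {E : Subgroup G} {a w : G} :
    w ∈ fixPart E a ↔ w ∈ oc a ∧ w ∈ centralizer (E : Set G) ∧ ∀ e ∈ E, e ≠ 1 → w ∈ oc e := by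
  simp [fixPart, mem_inf, mem_iInf, and_assoc]

theorem le_normalizer_oc {E : Subgroup G} {a : G} (ha : E ≤ centralizer ({a} : Set G)) :
    E ≤ normalizer (oc a : Set G) :=
  ha.trans (centralizer_le_normalizer_oc a)

variable [Finite G]

theorem map_conj_psi (g : G) (E : Subgroup G) (a : G) :
    (psi E a).map (MulAut.conj g).toMonoidHom =
      psi (E.map (MulAut.conj g).toMonoidHom) (g * a * g⁻¹) := by
  suffices h : ∀ (g : G) (E : Subgroup G) (a : G), (psi E a).map (MulAut.conj g).toMonoidHom ≤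
      psi (E.map (MulAut.conj g).toMonoidHom) (g * a * g⁻¹) by
    refine le_antisymm (h g E a) fun x hx => ?_
    have h2 := h g⁻¹ _ _ (mem_map_of_mem _ hx)
    rw [Subgroup.map_map, show g⁻¹ * (g * a * g⁻¹) * g⁻¹⁻¹ = a by group] at h2
    have : (MulAut.conj g⁻¹).toMonoidHom.comp (MulAut.conj g).toMonoidHom = MonoidHom.id G := by
      ext y; simp [mul_assoc]
    rw [this, Subgroup.map_id] at h2
    exact ⟨_, h2, by simp [mul_assoc]⟩
  intro g E a
  rw [psi, Subgroup.map_sup, map_commutator, map_conj_oc]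
  refine sup_le le_sup_left (le_trans ?_ le_sup_right)
  rintro _ ⟨w, hw, rfl⟩
  obtain ⟨h1, h2, h3⟩ := mem_fixPart.mp hw
  refine mem_fixPart.mpr ⟨map_conj_oc g a ▸ mem_map_of_mem _ h1, mem_centralizer_iff.mpr ?_, ?_⟩
  · rintro _ ⟨e, he, rfl⟩
    rw [← map_mul, ← map_mul, mem_centralizer_iff.mp h2 e he]
  · rintro _ ⟨e, he, rfl⟩ he1
    have := mem_map_of_mem (MulAut.conj g).toMonoidHom (h3 e he fun h => he1 (by simp [h]))
    rwa [map_conj_oc] at this

theorem map_conj_phi (g f x : G) :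
    (phi f x).map (MulAut.conj g).toMonoidHom = phi (g * f * g⁻¹) (g * x * g⁻¹) := by
  have hcent : (centralizer ({x} : Set G)).map (MulAut.conj g).toMonoidHom =
      centralizer {g * x * g⁻¹} := by
    ext y
    constructor
    · rintro ⟨z, hz, rfl⟩
      refine mem_centralizer_singleton_iff.mpr ?_
      show g * z * g⁻¹ * (g * x * g⁻¹) = g * x * g⁻¹ * (g * z * g⁻¹)
      calc g * z * g⁻¹ * (g * x * g⁻¹) = g * (z * x) * g⁻¹ := by group
        _ = g * (x * z) * g⁻¹ := by rw [mem_centralizer_singleton_iff.mp hz]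
        _ = _ := by group
    · intro hy
      refine ⟨g⁻¹ * y * g, ?_, by simp [mul_assoc]⟩
      rw [SetLike.mem_coe, mem_centralizer_singleton_iff]
      calc g⁻¹ * y * g * x = g⁻¹ * (y * (g * x * g⁻¹)) * g := by group
        _ = g⁻¹ * (g * x * g⁻¹ * y) * g := by rw [mem_centralizer_singleton_iff.mp hy]
        _ = x * (g⁻¹ * y * g) := by group
  rw [phi, phi, Subgroup.map_sup, map_commutator, map_conj_oc, MonoidHom.map_zpowers,
    map_inf _ _ _ (MulAut.conj g).injective, map_inf _ _ _ (MulAut.conj g).injective, map_conj_oc,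
    map_conj_oc, hcent]
  rfl

variable (D : Hyp G) {E : Subgroup G} (hE : IsFourIn D.X₁ E)
include hE

theorem le_centralizer_of_mem {v : G} (hv : v ∈ E) : E ≤ centralizer ({v} : Set G) := fun x hx =>
  mem_centralizer_singleton_iff.mpr
    (mem_centralizer_iff.mp (hE.fourLike.le_centralizer hx) v hv).symm

theorem le_normalizer_centralizer_four : E ≤ normalizer (centralizer (E : Set G) : Set G) :=
  hE.fourLike.le_centralizer.trans le_normalizer

theorem commutator_le_oc {K : Subgroup G} {v : G} (hv : v ∈ E) (hv1 : v ≠ 1)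
    (hEK : E ≤ normalizer (K : Set G)) (hKv : K ≤ centralizer {v}) (hK : Odd (Nat.card K)) :
    ⁅K, E⁆ ≤ oc v := by
  refine commutator_le.mpr fun k hk u hu => ?_
  rcases eq_or_ne u 1 with rfl | hu1
  · simp
  have hwK : ⁅k, u⁆ ∈ K :=
    Coprime.commutator_le_of_le_normalizer hEK (commutator_mem_commutator hk hu)
  have h := mem_oc_of_inverted D (hE.mem_X hv hv1) (b₂ := 1) (Or.inl rfl) (by simp) (x := u)
    (w := ⁅k, u⁆) (hE.mem_X hu hu1)
    (by simpa using mem_centralizer_singleton_iff.mp (le_centralizer_of_mem D hE hv hu))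
    (by simpa using mem_centralizer_singleton_iff.mp (hKv hwK))
    (hK.of_dvd_nat (K.orderOf_dvd_natCard hwK))
    (by
      have h2 := hE.sq hu
      have hui : u⁻¹ = u := inv_eq_of_mul_eq_one_right h2
      simp [commutatorElement_def, mul_assoc, hui, h2])
  rwa [mul_one] at h

theorem fixPart_normal {a : G} :
    oc a ⊓ centralizer (E : Set G) ≤ normalizer (fixPart E a : Set G) :=
  Coprime.le_normalizer_of_conj_mem fun g hg w hw => by
    obtain ⟨hga, hgE⟩ := mem_inf.mp hg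
    obtain ⟨h1, h2, h3⟩ := mem_fixPart.mp hw
    exact mem_fixPart.mpr ⟨mul_mem (mul_mem hga h1) (inv_mem hga),
      mul_mem (mul_mem hgE h2) (inv_mem hgE), fun e he he1 => conj_mem_of_mem_normalizer
        (map_oc_normalizer (mem_centralizer_iff.mp hgE e he).symm) (h3 e he he1)⟩

variable {a : G} (ha : E ≤ centralizer ({a} : Set G))
include ha

theorem fixPart_le_psi : fixPart E a ≤ psi E a := le_sup_right

theorem psi_le_oc : psi E a ≤ oc a :=
  sup_le (Coprime.commutator_le_of_le_normalizer (le_normalizer_oc ha))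
    (inf_le_left.trans inf_le_left)

theorem oc_le_normalizer_psi : oc a ≤ normalizer (psi E a : Set G) := by
  refine Coprime.le_normalizer_of_conj_mem fun g hg x hx => ?_
  suffices psi E a ≤ (psi E a).comap (MulAut.conj g).toMonoidHom from this hx
  refine sup_le (fun y hy => mem_sup_left
    (conj_mem_of_mem_normalizer (Coprime.le_normalizer_commutator_left E _ hg) hy)) fun d hd => ?_
  obtain ⟨h, hh, c, hc, rfl⟩ := Coprime.exists_commutator_mul_centralizer E (oc a)
    (le_normalizer_oc ha) (hE.coprime (odd_card_oc a)) (Or.inl (solvable_four hE.fourLike)) g hg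
  have hd' : c * d * c⁻¹ ∈ fixPart E a :=
    conj_mem_of_mem_normalizer (fixPart_normal D hE hc) hd
  set d' := c * d * c⁻¹ with hd'd
  show h * c * d * (h * c)⁻¹ ∈ psi E a
  rw [show h * c * d * (h * c)⁻¹ = h * (d' * h⁻¹ * d'⁻¹) * d' by simp [hd'd, mul_assoc]]
  exact mul_mem (mem_sup_left (mul_mem hh (conj_mem_of_mem_normalizer
    (Coprime.le_normalizer_commutator_left E _ (mem_fixPart.mp hd').1) (inv_mem hh))))
    (mem_sup_right hd')

theorem commutator_inf_le_fixPart :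
    ⁅oc a, E⁆ ⊓ centralizer (E : Set G) ≤ fixPart E a := by
  refine commutator_inf_centralizer_le hE.fourLike (le_normalizer_oc ha)
    (hE.coprime (odd_card_oc a)) (solvable_oc a) inf_le_left (fixPart_normal D hE) fun v hv hv1 => ?_
  intro w hw
  obtain ⟨hw1, hw2⟩ := mem_inf.mp hw
  have hinv : E ≤ normalizer ((oc a ⊓ centralizer {v} : Subgroup G) : Set G) :=
    Coprime.le_normalizer_inf (le_normalizer_oc ha) ((le_centralizer_of_mem D hE hv).trans le_normalizer)
  have hwv : w ∈ oc v := commutator_le_oc D hE hv hv1 hinv inf_le_right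
    ((odd_card_oc a).of_dvd_nat (card_dvd_of_le inf_le_left)) hw1
  exact mem_fixPart.mpr ⟨(mem_inf.mp (Coprime.commutator_le_of_le_normalizer hinv hw1)).1, hw2,
    fun e he he1 => mem_oc_four D hE hv hv1 he he1 hwv hw2⟩

theorem psi_inf_centralizer_le : psi E a ⊓ centralizer (E : Set G) ≤ fixPart E a := by
  intro w hw
  obtain ⟨hw1, hw2⟩ := mem_inf.mp hw
  have hmul : w ∈ ((⁅oc a, E⁆ : Subgroup G) : Set G) * (fixPart E a : Set G) := by
    rw [← coe_mul_of_right_le_normalizer_left ⁅oc a, E⁆ (fixPart E a)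
      (fun y hy => Coprime.le_normalizer_commutator_left E _ (mem_fixPart.mp hy).1)]
    exact hw1
  obtain ⟨k, hk, d, hd, rfl⟩ := Set.mem_mul.mp hmul
  exact mul_mem (commutator_inf_le_fixPart D hE ha (mem_inf.mpr ⟨hk, by
    simpa using mul_mem hw2 (inv_mem (mem_fixPart.mp hd).2.1)⟩)) hd

theorem four_le_normalizer_psi : E ≤ normalizer (psi E a : Set G) :=
  Coprime.le_normalizer_sup (Coprime.le_normalizer_commutator_right E _)
    (le_trans (le_centralizer_iff.mp
      (inf_le_left.trans inf_le_right : fixPart E a ≤ centralizer (E : Set G)))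
      (centralizer_le_normalizer _))

theorem psi_inf_le_oc {e : G} (he : e ∈ E) (he1 : e ≠ 1) :
    psi E a ⊓ centralizer {e} ≤ oc e := by
  set K := psi E a ⊓ centralizer ({e} : Set G) with hK
  have hEK : E ≤ normalizer (K : Set G) := Coprime.le_normalizer_inf (four_le_normalizer_psi D hE ha)
    ((le_centralizer_of_mem D hE he).trans le_normalizer)
  have hKodd : Odd (Nat.card K) :=
    (odd_card_oc a).of_dvd_nat (card_dvd_of_le (inf_le_left.trans (psi_le_oc D hE ha)))
  rw [← Coprime.commutator_sup_centralizer E K hEK (hE.coprime hKodd)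
    (Or.inl (solvable_four hE.fourLike))]
  exact sup_le (commutator_le_oc D hE he he1 hEK inf_le_right hKodd) fun w hw =>
    (mem_fixPart.mp (psi_inf_centralizer_le D hE ha
      (mem_inf.mpr ⟨(mem_inf.mp (mem_inf.mp hw).1).1, (mem_inf.mp hw).2⟩))).2.2 e he he1

theorem psi_eq_phi {x : G} (hx : x ∈ E) (hx1 : x ≠ 1) : psi E a = phi a x := by
  have hz : zpowers x ≤ E := zpowers_le.mpr hx
  have hxo : zpowers x ≤ normalizer (oc a : Set G) := hz.trans (le_normalizer_oc ha)
  have hcop : (Nat.card (zpowers x)).Coprime (Nat.card (oc a)) :=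
    (hE.coprime (odd_card_oc a)).coprime_dvd_left (card_dvd_of_le hz)
  have hzs : Group.IsSolvable (zpowers x) := Coprime.solvable_of_le hz (solvable_four hE.fourLike)
  set C := oc a ⊓ centralizer ({x} : Set G) with hC
  have hEC : E ≤ normalizer (C : Set G) := Coprime.le_normalizer_inf (le_normalizer_oc ha)
    ((le_centralizer_of_mem D hE hx).trans le_normalizer)
  have hCodd : Odd (Nat.card C) := (odd_card_oc a).of_dvd_nat (card_dvd_of_le inf_le_left)
  refine le_antisymm (sup_le (commutator_le.mpr fun k hk u hu => ?_) fun w hw => ?_)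
    (sup_le ((commutator_mono le_rfl hz).trans le_sup_left) fun w hw => ?_)
  · obtain ⟨y, hy, c, hc, rfl⟩ :=
      Coprime.exists_commutator_mul_centralizer (zpowers x) (oc a) hxo hcop (Or.inl hzs) k hk
    have hcC : c ∈ C := by
      refine mem_inf.mpr ⟨(mem_inf.mp hc).1, ?_⟩
      rw [← SFT45.centralizer_zpowers]
      exact (mem_inf.mp hc).2
    have h1 : ⁅c, u⁆ ∈ C :=
      Coprime.commutator_le_of_le_normalizer hEC (commutator_mem_commutator hcC hu)
    have h2 : ⁅c, u⁆ ∈ phi a x := mem_sup_right (mem_inf.mpr ⟨h1,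
      commutator_le_oc D hE hx hx1 hEC inf_le_right hCodd (commutator_mem_commutator hcC hu)⟩)
    have hu' : u ∈ normalizer ((⁅oc a, zpowers x⁆ : Subgroup G) : Set G) :=
      SFT45.le_normalizer_commutator (le_normalizer_oc ha) (le_trans (le_centralizer_iff.mp
        (hz.trans hE.fourLike.le_centralizer)) (centralizer_le_normalizer _)) hu
    rw [show ⁅y * c, u⁆ = y * ⁅c, u⁆ * (u * y⁻¹ * u⁻¹) by simp [commutatorElement_def, mul_assoc]]
    exact mul_mem (mul_mem (mem_sup_left hy) h2)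
      (mem_sup_left (conj_mem_of_mem_normalizer hu' (inv_mem hy)))
  · obtain ⟨h1, h2, h3⟩ := mem_fixPart.mp hw
    exact mem_sup_right (mem_inf.mpr ⟨mem_inf.mpr ⟨h1,
      centralizer_le (Set.singleton_subset_iff.mpr hx) h2⟩, h3 x hx hx1⟩)
  · set C' := C ⊓ oc x with hC'
    have hEC' : E ≤ normalizer (C' : Set G) :=
      Coprime.le_normalizer_inf hEC (le_normalizer_oc (le_centralizer_of_mem D hE hx))
    obtain ⟨y, hy, c, hc, rfl⟩ := Coprime.exists_commutator_mul_centralizer E C' hEC'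
      (hE.coprime (hCodd.of_dvd_nat (card_dvd_of_le inf_le_left)))
      (Or.inl (solvable_four hE.fourLike)) w hw
    refine mul_mem (mem_sup_left (commutator_mono (inf_le_left.trans inf_le_left) le_rfl hy))
      (mem_sup_right ?_)
    obtain ⟨hcC, hcE⟩ := mem_inf.mp hc
    exact mem_fixPart.mpr ⟨(mem_inf.mp (mem_inf.mp hcC).1).1, hcE,
      fun e he he1 => mem_oc_four D hE hx hx1 he he1 (mem_inf.mp hcC).2 hcE⟩

omit hE ha in
/-- A pair of commuting four-groups of the two kinds. -/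
structure Pair (D : Hyp G) (E₁ E₂ : Subgroup G) : Prop where
  four₁ : IsFourIn D.X₁ E₁
  four₂ : IsFourIn D.X₂ E₂
  comm : E₁ ≤ centralizer (E₂ : Set G)

omit hE ha in
/-- The functor of a pair. -/
def theta (E₁ E₂ : Subgroup G) (a : G) : Subgroup G := psi E₁ a ⊓ psi E₂ a

namespace Pair

omit hE ha

variable {D} {E₁ E₂ : Subgroup G} (hp : Pair D E₁ E₂)
include hp

theorem swap : Pair D.swap E₂ E₁ := ⟨hp.four₂, hp.four₁, le_centralizer_iff.mp hp.comm⟩

theorem mem_sup {x : G} (hx : x ∈ E₁ ⊔ E₂) : ∃ a ∈ E₁, ∃ b ∈ E₂, a * b = x := by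
  have h : x ∈ (E₁ : Set G) * (E₂ : Set G) := by
    rw [← coe_mul_of_left_le_normalizer_right E₁ E₂ (hp.comm.trans (centralizer_le_normalizer _))]
    exact hx
  exact Set.mem_mul.mp h

theorem sup_le_centralizer : E₁ ⊔ E₂ ≤ centralizer ((E₁ ⊔ E₂ : Subgroup G) : Set G) :=
  sup_le (le_centralizer_iff.mp (sup_le hp.four₁.fourLike.le_centralizer
    (le_centralizer_iff.mp hp.comm)))
    (le_centralizer_iff.mp (sup_le hp.comm hp.four₂.fourLike.le_centralizer))

theorem sup_comm_elem {x y : G} (hx : x ∈ E₁ ⊔ E₂) (hy : y ∈ E₁ ⊔ E₂) : x * y = y * x :=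
  (mem_centralizer_iff.mp (hp.sup_le_centralizer hx) y hy).symm

theorem le_cent_left {a : G} (ha : a ∈ E₁ ⊔ E₂) : E₁ ≤ centralizer ({a} : Set G) := fun x hx =>
  mem_centralizer_singleton_iff.mpr (hp.sup_comm_elem (mem_sup_left hx) ha)

theorem le_cent_right {a : G} (ha : a ∈ E₁ ⊔ E₂) : E₂ ≤ centralizer ({a} : Set G) := fun x hx =>
  mem_centralizer_singleton_iff.mpr (hp.sup_comm_elem (mem_sup_right hx) ha)

theorem elementary : IsElementaryAbelian 2 (E₁ ⊔ E₂ : Subgroup G) := by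
  refine ⟨⟨⟨fun x y => Subtype.ext (hp.sup_comm_elem x.2 y.2)⟩⟩, fun x hx => ?_⟩
  obtain ⟨a, ha, b, hb, rfl⟩ := hp.mem_sup hx
  rw [pow_two]
  calc a * b * (a * b) = a * (b * a) * b := by group
    _ = a * (a * b) * b := by rw [hp.sup_comm_elem (mem_sup_left ha) (mem_sup_right hb)]
    _ = (a * a) * (b * b) := by group
    _ = 1 := by rw [hp.four₁.sq ha, hp.four₂.sq hb, one_mul]

theorem card_ge : 2 ^ 3 ≤ Nat.card (E₁ ⊔ E₂ : Subgroup G) := by
  classical
  have h4 : ∀ {X : Set G} {E : Subgroup G}, IsFourIn X E → 4 ≤ Nat.card E := by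
    intro X E hE'
    obtain ⟨u, v, -, -, -, huo, hvo, hc, hne, h⟩ := hE'.mem_iff_exists
    have hu1 := Involution.ne_one_of_orderOf huo
    have hv1 := Involution.ne_one_of_orderOf hvo
    have huv1 : u * v ≠ 1 := fun e => hne
      (by rw [eq_inv_of_mul_eq_one_left e, Involution.inv_of_orderOf hvo])
    let s : Finset E := {⟨1, one_mem _⟩, ⟨u, (h u).mpr (by simp)⟩, ⟨v, (h v).mpr (by simp)⟩,
      ⟨u * v, (h _).mpr (by simp)⟩}
    haveI := Fintype.ofFinite E
    calc 4 = s.card := by simp [s, hne, Ne.symm hu1, Ne.symm hv1, Ne.symm huv1, hv1, hu1]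
      _ ≤ _ := by rw [Nat.card_eq_fintype_card]; exact Finset.card_le_univ s
  have hdisj : ∀ x ∈ E₁, ∀ y ∈ E₂, ∀ x' ∈ E₁, ∀ y' ∈ E₂, x * y = x' * y' → x = x' ∧ y = y' := by
    intro x hx y hy x' hx' y' hy' h
    have he : x'⁻¹ * x = y' * y⁻¹ := by
      rw [show x'⁻¹ * x = x'⁻¹ * (x * y) * y⁻¹ by group, h]; group
    by_cases h1 : x'⁻¹ * x = 1
    · have hxx : x = x' := (inv_mul_eq_one.mp h1).symm
      subst hxx
      exact ⟨rfl, mul_left_cancel h⟩
    · exact (D.not_both (hp.four₁.mem_X (mul_mem (inv_mem hx') hx) h1)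
        (he ▸ hp.four₂.mem_X (mul_mem hy' (inv_mem hy)) (he ▸ h1))).elim
  let f : E₁ × E₂ → (E₁ ⊔ E₂ : Subgroup G) := fun x =>
    ⟨(x.1 : G) * x.2, mul_mem (mem_sup_left x.1.2) (mem_sup_right x.2.2)⟩
  have hf : Function.Injective f := fun x y h => by
    obtain ⟨e1, e2⟩ := hdisj _ x.1.2 _ x.2.2 _ y.1.2 _ y.2.2 (congrArg Subtype.val h)
    exact Prod.ext (Subtype.ext e1) (Subtype.ext e2)
  calc 2 ^ 3 ≤ 4 * 4 := by norm_num
    _ ≤ Nat.card E₁ * Nat.card E₂ := Nat.mul_le_mul (h4 hp.four₁) (h4 hp.four₂)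
    _ = Nat.card (E₁ × E₂) := (Nat.card_prod _ _).symm
    _ ≤ _ := Nat.card_le_card_of_injective f hf

theorem coprime {K : Subgroup G} (hK : Odd (Nat.card K)) :
    (Nat.card (E₁ ⊔ E₂ : Subgroup G)).Coprime (Nat.card K) := by
  haveI := Fact.mk Nat.prime_two
  obtain ⟨n, hn⟩ := IsPGroup.iff_card.mp (Signal38.isPGroup_of_elementary hp.elementary)
  rw [hn]
  exact (Nat.coprime_two_left.mpr hK).pow_left n

theorem sup_le_normalizer_theta {a : G} (ha : a ∈ E₁ ⊔ E₂) :
    E₁ ⊔ E₂ ≤ normalizer (theta E₁ E₂ a : Set G) := by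
  refine Coprime.le_normalizer_of_conj_mem fun g hg x hx => ?_
  have hga : g * a * g⁻¹ = a := by rw [hp.sup_comm_elem hg ha, mul_inv_cancel_right]
  have hgE : ∀ {E : Subgroup G}, E ≤ E₁ ⊔ E₂ → E.map (MulAut.conj g).toMonoidHom = E := by
    intro E hle
    have heq : ∀ y ∈ E, g * y * g⁻¹ = y := fun y hy => by
      rw [hp.sup_comm_elem hg (hle hy), mul_inv_cancel_right]
    ext z
    refine ⟨?_, fun hz => ⟨z, hz, by simpa using heq z hz⟩⟩
    rintro ⟨y, hy, rfl⟩
    simpa [heq y hy] using hy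
  refine mem_inf.mpr ⟨?_, ?_⟩
  · have := mem_map_of_mem (MulAut.conj g).toMonoidHom (mem_inf.mp hx).1
    rwa [map_conj_psi, hgE le_sup_left, hga] at this
  · have := mem_map_of_mem (MulAut.conj g).toMonoidHom (mem_inf.mp hx).2
    rwa [map_conj_psi, hgE le_sup_right, hga] at this

theorem theta_le_oc {a : G} (ha : a ∈ E₁ ⊔ E₂) : theta E₁ E₂ a ≤ oc a :=
  inf_le_left.trans (psi_le_oc D hp.four₁ (hp.le_cent_left ha))

/-- Balance, first half. -/
theorem balance_oc {a b : G} (ha : a ∈ E₁ ⊔ E₂) (hb : b ∈ E₁ ⊔ E₂) (hb1 : b ≠ 1) :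
    theta E₁ E₂ a ⊓ centralizer {b} ≤ oc b := by
  set Y := theta E₁ E₂ a ⊓ centralizer ({b} : Set G) with hY
  have hYodd : Odd (Nat.card Y) :=
    (odd_card_oc a).of_dvd_nat (card_dvd_of_le (inf_le_left.trans (hp.theta_le_oc ha)))
  have hAY : E₁ ⊔ E₂ ≤ normalizer (Y : Set G) := Coprime.le_normalizer_inf
    (hp.sup_le_normalizer_theta ha) ((sup_le (hp.le_cent_left hb) (hp.le_cent_right hb)).trans le_normalizer)
  haveI := hp.four₁.fourLike.1
  haveI := hp.four₂.fourLike.1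
  refine le_of_centralizer_le E₁ Y _ hp.four₁.fourLike.2.1 (le_sup_left.trans hAY)
    (hp.four₁.coprime hYodd) fun e he he1 => ?_
  have hK : Odd (Nat.card (Y ⊓ centralizer ({e} : Set G) : Subgroup G)) :=
    hYodd.of_dvd_nat (card_dvd_of_le inf_le_left)
  refine le_of_centralizer_le E₂ _ _ hp.four₂.fourLike.2.1 (Coprime.le_normalizer_inf
    (le_sup_right.trans hAY) ((hp.le_cent_right (mem_sup_left he)).trans le_normalizer))
    (hp.four₂.coprime hK) fun f hf hf1 w hw => ?_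
  obtain ⟨hw1, hwf⟩ := mem_inf.mp hw
  obtain ⟨hwY, hwe⟩ := mem_inf.mp hw1
  obtain ⟨hwθ, hwb⟩ := mem_inf.mp hwY
  have hwoe : w ∈ oc e := psi_inf_le_oc D hp.four₁ (hp.le_cent_left ha) he he1
    (mem_inf.mpr ⟨(mem_inf.mp hwθ).1, hwe⟩)
  have hwof : w ∈ oc f := psi_inf_le_oc D.swap hp.four₂ (hp.le_cent_right ha) hf hf1
    (mem_inf.mpr ⟨(mem_inf.mp hwθ).2, hwf⟩)
  rw [mem_centralizer_singleton_iff] at hwb
  obtain ⟨b₁, hb₁, b₂, hb₂, rfl⟩ := hp.mem_sup hb
  have heb := hp.sup_comm_elem (mem_sup_left he) hb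
  have hfb := hp.sup_comm_elem (mem_sup_right hf) hb
  rcases eq_or_ne b₁ 1 with rfl | hb₁1
  · rw [one_mul] at hwb heb hfb hb1 ⊢
    have h := mem_oc_mixed D.swap (b₁ := b₂) (b₂ := 1) (hp.four₂.mem_X hb₂ hb1) (Or.inl rfl)
      (by simp) (hp.four₂.mem_X hf hf1) (hp.four₁.mem_X he he1) (by simpa using hfb)
      (by simpa using heb) (by simpa using hwb) hwof hwoe
    rwa [mul_one] at h
  · refine mem_oc_mixed D (hp.four₁.mem_X hb₁ hb₁1) ?_
      (hp.sup_comm_elem (mem_sup_left hb₁) (mem_sup_right hb₂)) (hp.four₁.mem_X he he1)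
      (hp.four₂.mem_X hf hf1) heb hfb hwb hwoe hwof
    exact (eq_or_ne b₂ 1).imp_right (hp.four₂.mem_X hb₂)

theorem balance_left {a b : G} (ha : a ∈ E₁ ⊔ E₂) (hb : b ∈ E₁ ⊔ E₂) (hb1 : b ≠ 1) :
    theta E₁ E₂ a ⊓ centralizer {b} ≤ psi E₁ b := by
  set Y := theta E₁ E₂ a ⊓ centralizer ({b} : Set G) with hY
  have hYodd : Odd (Nat.card Y) :=
    (odd_card_oc a).of_dvd_nat (card_dvd_of_le (inf_le_left.trans (hp.theta_le_oc ha)))
  have hAY : E₁ ≤ normalizer (Y : Set G) := Coprime.le_normalizer_inf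
    (le_sup_left.trans (hp.sup_le_normalizer_theta ha)) ((hp.le_cent_left hb).trans le_normalizer)
  have hYb : Y ≤ oc b := hp.balance_oc ha hb hb1
  rw [← Coprime.commutator_sup_centralizer E₁ Y hAY (hp.four₁.coprime hYodd)
    (Or.inl (solvable_four hp.four₁.fourLike))]
  refine sup_le ((commutator_mono hYb le_rfl).trans le_sup_left) fun w hw => mem_sup_right ?_
  obtain ⟨hwY, hwE⟩ := mem_inf.mp hw
  exact mem_fixPart.mpr ⟨hYb hwY, hwE, fun e he he1 => (mem_fixPart.mp
    (psi_inf_centralizer_le D hp.four₁ (hp.le_cent_left ha)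
      (mem_inf.mpr ⟨(mem_inf.mp (mem_inf.mp hwY).1).1, hwE⟩))).2.2 e he he1⟩

omit hp in
theorem theta_comm (E₁ E₂ : Subgroup G) (a : G) : theta E₁ E₂ a = theta E₂ E₁ a := inf_comm _ _

theorem isSolvableSignalizerFunctor :
    IsSolvableSignalizerFunctor 2 (E₁ ⊔ E₂ : Subgroup G) (theta E₁ E₂) := by
  refine ⟨⟨fun a ha _ => (hp.theta_le_oc ha).trans (oc_le a), fun a ha _ hd => ?_,
    fun a ha _ b hb x hx => conj_mem_of_mem_normalizer (hp.sup_le_normalizer_theta ha hb) hx,
    fun a ha _ b hb hb1 => ?_⟩, fun a ha _ =>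
      Coprime.solvable_of_le (hp.theta_le_oc ha) (solvable_oc a)⟩
  · exact Nat.not_even_iff_odd.mpr ((odd_card_oc a).of_dvd_nat
      (card_dvd_of_le (hp.theta_le_oc ha))) (even_iff_two_dvd.mpr hd)
  · refine le_inf (hp.balance_left ha hb hb1) ?_
    rw [theta_comm]
    exact hp.swap.balance_left (by rwa [sup_comm]) (by rwa [sup_comm]) hb1

theorem theta_eq_psi {f : G} (hf : f ∈ E₂) (hf1 : f ≠ 1) : theta E₁ E₂ f = psi E₁ f := by
  refine le_antisymm inf_le_left (le_inf le_rfl ?_)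
  refine (psi_le_oc D hp.four₁ (hp.le_cent_left (mem_sup_right hf))).trans ?_
  have hc := hp.le_cent_right (mem_sup_right hf)
  rw [← Coprime.commutator_sup_centralizer E₂ (oc f) (le_normalizer_oc hc)
    (hp.four₂.coprime (odd_card_oc f)) (Or.inl (solvable_four hp.four₂.fourLike))]
  exact sup_le le_sup_left fun w hw => mem_sup_right (mem_fixPart.mpr ⟨(mem_inf.mp hw).1,
    (mem_inf.mp hw).2, fun e he he1 =>
      mem_oc_four D.swap hp.four₂ hf hf1 he he1 (mem_inf.mp hw).1 (mem_inf.mp hw).2⟩)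

theorem inverted_mem_theta {e f u : G} (he : e ∈ E₁) (hf : f ∈ E₂) (hu : u ∈ oc (e * f))
    (heu : e * u * e⁻¹ = u⁻¹) (hfu : f * u * f⁻¹ = u⁻¹) : u ∈ theta E₁ E₂ (e * f) := by
  have key : ∀ {E : Subgroup G} {x : G}, x ∈ E → x * u * x⁻¹ = u⁻¹ →
      u ∈ ⁅oc (e * f), E⁆ := by
    intro E x hx hxu
    have hsq : ⁅u, x⁆ = u * u := by
      rw [commutatorElement_def, show u * x * u⁻¹ * x⁻¹ = u * (x * u * x⁻¹)⁻¹ by group, hxu, inv_inv]
    have h2 : u * u ∈ ⁅oc (e * f), E⁆ := hsq ▸ commutator_mem_commutator hu hx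
    obtain ⟨j, hj⟩ := odd_orderOf_oc hu
    have : u = (u * u) ^ (j + 1) := by
      rw [← pow_two, ← pow_mul, show 2 * (j + 1) = orderOf u + 1 by omega, pow_succ,
        pow_orderOf_eq_one, one_mul]
    exact this ▸ pow_mem h2 _
  exact mem_inf.mpr ⟨mem_sup_left (key he heu), mem_sup_left (key hf hfu)⟩

end Pair

end Cfsg.Agent.ProdFus42
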