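import Cfsg.Agent.ProdFus42.KL
import Cfsg.Prelude.Def_TwoFusion
import Cfsg.Agent.Lib.Involution.Dihedral
import Cfsg.Agent.Lib.Involution.IndexTwo
import Cfsg.Agent.Lib.Involution.Isolated
import Cfsg.Agent.Lib.Involution.StronglyEmbedded
import Cfsg.Agent.PF14.Compose

/-!
# Product fusion with dihedral factors: basic facts
-/

set_option autoImplicit false
set_option linter.style.haveILetI false
set_option linter.unusedSectionVars false

namespace Cfsg.Agent.ProdFus42

open Subgroup Coprime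
open scoped Pointwise commutatorElement

variable {G : Type*} [Group G]

/-- `S` is dihedral-like with cyclic part `C`. -/
structure DihLike (S C : Subgroup G) : Prop where
  le : C ≤ S
  cyclic : IsCyclic C
  even : Even (Nat.card C)
  sq : ∀ x ∈ S, x ∉ C → x * x = 1
  mul : ∀ x ∈ S, ∀ y ∈ S, x ∉ C → y ∉ C → x * y ∈ C
  out : ∃ x ∈ S, x ∉ C

namespace DihLike

variable {S C : Subgroup G} (h : DihLike S C)
include h

theorem unique {a b : G} (ha : a ∈ C) (hb : b ∈ C) (hao : orderOf a = 2) (hbo : orderOf b = 2)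
    [Finite G] : a = b := by
  haveI := h.cyclic
  exact congrArg Subtype.val (Involution.involution_unique_of_isCyclic (a := (⟨a, ha⟩ : C))
    (b := ⟨b, hb⟩) (by rw [orderOf_mk, hao]) (by rw [orderOf_mk, hbo]))

theorem exists_invol [Finite G] : ∃ z ∈ C, orderOf z = 2 :=
  Involution.exists_involution_of_even h.even

theorem comm_cyclic {a b : G} (ha : a ∈ C) (hb : b ∈ C) : a * b = b * a := by
  haveI := h.cyclic
  haveI : IsMulCommutative C := IsCyclic.isMulCommutative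
  exact congrArg Subtype.val (mul_comm' (⟨a, ha⟩ : C) ⟨b, hb⟩)

theorem inverts {x c : G} (hx : x ∈ S) (hxC : x ∉ C) (hc : c ∈ C) : x * c * x⁻¹ = c⁻¹ := by
  have hxc : x * c ∉ C := fun h' => hxC (by simpa using mul_mem h' (inv_mem hc))
  have h1 := h.sq x hx hxC
  have h2 := h.sq _ (mul_mem hx (h.le hc)) hxc
  rw [← eq_inv_iff_mul_eq_one] at h1
  rw [show x * c * (x * c) = (x * c * x) * c by group, ← eq_inv_iff_mul_eq_one] at h2
  rw [← h1, h2]

theorem central_cyclic_invol {z x : G} (hz : z ∈ C) (hzo : orderOf z = 2) (hx : x ∈ S) :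
    x * z = z * x := by
  by_cases hxC : x ∈ C
  · exact h.comm_cyclic hxC hz
  · have := h.inverts hx hxC hz
    rw [Involution.inv_of_orderOf hzo] at this
    exact mul_inv_eq_iff_eq_mul.mp this

/-- Every involution of `S` lies in a four-group of `S`. -/
theorem exists_commuting [Finite G] {x : G} (hx : x ∈ S) (hxo : orderOf x = 2) :
    ∃ u ∈ S, orderOf u = 2 ∧ u ≠ x ∧ x * u = u * x := by
  by_cases hxC : x ∈ C
  · obtain ⟨y, hy, hyC⟩ := h.out
    refine ⟨y, hy, Involution.orderOf_eq_two_iff'.mpr ⟨h.sq y hy hyC, fun h1 => hyC (h1 ▸ one_mem C)⟩,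
      fun e => hyC (e ▸ hxC), ?_⟩
    exact (h.central_cyclic_invol hxC hxo hy).symm
  · obtain ⟨z, hz, hzo⟩ := h.exists_invol
    exact ⟨z, h.le hz, hzo, fun e => hxC (e ▸ hz), h.central_cyclic_invol hz hzo hx⟩

/-- The centraliser of an involution of `S`. -/
theorem centralizer_invol [Finite G] {b : G} (hb : b ∈ S) (hbo : orderOf b = 2) :
    ∃ C' : Subgroup G, DihLike (S ⊓ centralizer {b}) C' ∧ b ∈ C' := by
  by_cases hbC : b ∈ C
  · have heq : S ⊓ centralizer {b} = S := inf_eq_left.mpr fun x hx =>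
      mem_centralizer_singleton_iff.mpr (h.central_cyclic_invol hbC hbo hx)
    exact ⟨C, heq.symm ▸ h, hbC⟩
  · obtain ⟨z, hz, hzo⟩ := h.exists_invol
    have hbz : b * z = z * b := h.central_cyclic_invol hz hzo hb
    have hb2 := Involution.mul_self_of_orderOf hbo
    have hzb : zpowers b ≤ S ⊓ centralizer {b} := zpowers_le.mpr
      (mem_inf.mpr ⟨hb, mem_centralizer_singleton_iff.mpr rfl⟩)
    have hmem : ∀ x ∈ S ⊓ centralizer {b}, x = 1 ∨ x = b ∨ x = z ∨ x = b * z := by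
      intro x hx
      obtain ⟨hxS, hxb⟩ := mem_inf.mp hx
      rw [mem_centralizer_singleton_iff] at hxb
      have hC : ∀ c ∈ C, c * b = b * c → c = 1 ∨ c = z := fun c hc hcb => by
        refine or_iff_not_imp_left.mpr fun hc1 => h.unique hc hz ?_ hzo
        have h2 := h.inverts hb hbC hc
        rw [← hcb, mul_assoc, mul_inv_cancel, mul_one] at h2
        exact Involution.orderOf_eq_two_iff'.mpr ⟨eq_inv_iff_mul_eq_one.mp h2, hc1⟩
      by_cases hxC : x ∈ C
      · rcases hC x hxC hxb with h' | h' <;> simp [h']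
      · have hbx : b * x ∈ C := h.mul b hb x hxS hbC hxC
        rcases hC _ hbx (by rw [mul_assoc, hxb]; ) with h' | h'
        · refine Or.inr (Or.inl ?_)
          calc x = b * b * x := by rw [hb2, one_mul]
            _ = b := by rw [mul_assoc, h', mul_one]
        · refine Or.inr (Or.inr (Or.inr ?_))
          calc x = b * b * x := by rw [hb2, one_mul]
            _ = b * z := by rw [mul_assoc, h']
    have hnotin : ∀ x ∈ S ⊓ centralizer {b}, x ∉ zpowers b → x = z ∨ x = b * z := by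
      intro x hx hxn
      rcases hmem x hx with h' | h' | h' | h'
      · exact absurd (h' ▸ one_mem _) hxn
      · exact absurd (h' ▸ mem_zpowers b) hxn
      · exact Or.inl h'
      · exact Or.inr h'
    have hz2 := Involution.mul_self_of_orderOf hzo
    refine ⟨zpowers b, ⟨hzb, inferInstance, ?_, ?_, ?_, ?_⟩, mem_zpowers b⟩
    · rw [Nat.card_zpowers, hbo]; exact even_two
    · intro x hx hxn
      rcases hnotin x hx hxn with rfl | rfl
      · exact hz2
      · calc b * z * (b * z) = b * (z * b) * z := by group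
          _ = b * (b * z) * z := by rw [hbz]
          _ = (b * b) * (z * z) := by group
          _ = 1 := by rw [hb2, hz2, one_mul]
    · intro x hx y hy hxn hyn
      rcases hnotin x hx hxn with rfl | rfl <;> rcases hnotin y hy hyn with rfl | rfl
      · rw [hz2]; exact one_mem _
      · rw [← mul_assoc, ← hbz, mul_assoc, hz2, mul_one]; exact mem_zpowers b
      · rw [mul_assoc, hz2, mul_one]; exact mem_zpowers b
      · rw [mul_assoc, ← mul_assoc z b, ← hbz, mul_assoc b z z, hz2, mul_one, hb2]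
        exact one_mem _
    · refine ⟨z, mem_inf.mpr ⟨h.le hz, mem_centralizer_singleton_iff.mpr hbz.symm⟩, fun hzm => ?_⟩
      obtain ⟨k, hk⟩ := mem_zpowers_iff.mp hzm
      rcases Int.even_or_odd k with ⟨j, hj⟩ | ⟨j, hj⟩
      · refine Involution.ne_one_of_orderOf hzo ?_
        rw [← hk, hj, zpow_add, ← (Commute.refl b).mul_zpow, hb2, one_zpow]
      · refine hbC ?_
        rw [hj, zpow_add, zpow_one, two_mul, zpow_add, ← (Commute.refl b).mul_zpow, hb2, one_zpow, one_mul] at hk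
        exact hk ▸ hz

theorem image {H : Type*} [Group H] (f : G →* H) (hf : ∀ x ∈ S, f x = 1 → x = 1) :
    DihLike (S.map f) (C.map f) := by
  have hinj : ∀ x ∈ S, f x ∈ C.map f → x ∈ C := by
    rintro x hx ⟨c, hc, hcx⟩
    have h1 : f (c⁻¹ * x) = 1 := by rw [map_mul, map_inv, hcx, inv_mul_cancel]
    exact inv_mul_eq_one.mp (hf _ (mul_mem (inv_mem (h.le hc)) hx) h1) ▸ hc
  haveI := h.cyclic
  refine ⟨map_mono h.le, ?_, ?_, ?_, ?_, ?_⟩
  · exact isCyclic_of_surjective (f.subgroupMap C) (f.subgroupMap_surjective C)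
  · let e : C → C.map f := fun x => ⟨f x, mem_map_of_mem f x.2⟩
    have he : Function.Bijective e := by
      refine ⟨fun x y hxy => ?_, ?_⟩
      · have h1 : f ((x : G)⁻¹ * y) = 1 := by
          rw [map_mul, map_inv, show f x = f y from congrArg Subtype.val hxy, inv_mul_cancel]
        exact Subtype.ext (inv_mul_eq_one.mp
          (hf _ (mul_mem (inv_mem (h.le x.2)) (h.le y.2)) h1))
      · rintro ⟨_, x, hx, rfl⟩; exact ⟨⟨x, hx⟩, rfl⟩
    rw [← Nat.card_eq_of_bijective e he]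
    exact h.even
  · rintro _ ⟨x, hx, rfl⟩ hxC
    rw [← map_mul, h.sq x hx fun h' => hxC (mem_map_of_mem f h'), map_one]
  · rintro _ ⟨x, hx, rfl⟩ _ ⟨y, hy, rfl⟩ hxC hyC
    rw [← map_mul]
    exact mem_map_of_mem f
      (h.mul x hx y hy (fun h' => hxC (mem_map_of_mem f h')) fun h' => hyC (mem_map_of_mem f h'))
  · obtain ⟨x, hx, hxC⟩ := h.out
    exact ⟨f x, mem_map_of_mem f hx, fun h' => hxC (hinj x hx h')⟩

theorem subgroupOf {H : Subgroup G} (hS : S ≤ H) :
    DihLike (S.subgroupOf H) (C.subgroupOf H) := by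
  haveI := h.cyclic
  refine ⟨fun x hx => h.le hx, ?_, ?_, ?_, ?_, ?_⟩
  · exact isCyclic_of_surjective _ (subgroupOfEquivOfLe (h.le.trans hS)).symm.surjective
  · rw [Nat.card_congr (subgroupOfEquivOfLe (h.le.trans hS)).toEquiv]; exact h.even
  · intro x hx hxC; exact Subtype.ext (h.sq x hx hxC)
  · intro x hx y hy hxC hyC; exact h.mul x hx y hy hxC hyC
  · obtain ⟨x, hx, hxC⟩ := h.out
    exact ⟨⟨x, hS hx⟩, hx, hxC⟩

end DihLike

/-- The standing hypotheses of product fusion. -/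
structure Hyp (G : Type*) [Group G] where
  P : Sylow 2 G
  S₁ : Subgroup G
  S₂ : Subgroup G
  C₁ : Subgroup G
  C₂ : Subgroup G
  dih₁ : DihLike S₁ C₁
  dih₂ : DihLike S₂ C₂
  le₁ : S₁ ≤ P
  le₂ : S₂ ≤ P
  comm : ∀ a ∈ S₁, ∀ b ∈ S₂, a * b = b * a
  disj : S₁ ⊓ S₂ = ⊥
  sup : S₁ ⊔ S₂ = P
  sc₁ : IsStronglyClosed S₁ (P : Subgroup G)
  sc₂ : IsStronglyClosed S₂ (P : Subgroup G)

/-- The involutions conjugate into `S`. -/
def invClass (S : Subgroup G) : Set G := {x | orderOf x = 2 ∧ ∃ g : G, g * x * g⁻¹ ∈ S}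

theorem invClass_conj {S : Subgroup G} {x : G} (g : G) (hx : x ∈ invClass S) :
    g * x * g⁻¹ ∈ invClass S := by
  obtain ⟨ho, k, hk⟩ := hx
  refine ⟨by rw [Involution.orderOf_conj, ho], k * g⁻¹, ?_⟩
  rwa [show k * g⁻¹ * (g * x * g⁻¹) * (k * g⁻¹)⁻¹ = k * x * k⁻¹ by group]

theorem invClass_map_conj (S : Subgroup G) (g : G) :
    invClass (S.map (MulAut.conj g).toMonoidHom) = invClass S := by
  ext x
  refine and_congr_right fun _ => ⟨fun ⟨k, hk⟩ => ?_, fun ⟨k, hk⟩ => ⟨g * k, ?_⟩⟩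
  · obtain ⟨s, hs, hsx⟩ := hk
    refine ⟨g⁻¹ * k, ?_⟩
    have : g * s * g⁻¹ = k * x * k⁻¹ := hsx
    rw [show g⁻¹ * k * x * (g⁻¹ * k)⁻¹ = g⁻¹ * (k * x * k⁻¹) * g by group, ← this]
    simpa [mul_assoc] using hs
  · exact ⟨_, hk, by simp [mul_assoc]⟩

namespace Hyp

/-- Exchange the two factors. -/
def swap (D : Hyp G) : Hyp G where
  P := D.P
  S₁ := D.S₂
  S₂ := D.S₁
  C₁ := D.C₂
  C₂ := D.C₁
  dih₁ := D.dih₂
  dih₂ := D.dih₁
  le₁ := D.le₂
  le₂ := D.le₁
  comm := fun a ha b hb => (D.comm b hb a ha).symm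
  disj := by rw [inf_comm]; exact D.disj
  sup := by rw [sup_comm]; exact D.sup
  sc₁ := D.sc₂
  sc₂ := D.sc₁

theorem strongly_closed_map {S P : Subgroup G} (h : IsStronglyClosed S P) (g : G) :
    IsStronglyClosed (S.map (MulAut.conj g).toMonoidHom) (P.map (MulAut.conj g).toMonoidHom) := by
  refine ⟨map_mono h.1, ?_⟩
  rintro _ ⟨x, hx, rfl⟩ k ⟨y, hy, hyk⟩
  refine ⟨y, ?_, hyk⟩
  have e : g⁻¹ * k * g * x * (g⁻¹ * k * g)⁻¹ = y := by
    have : g * y * g⁻¹ = k * (g * x * g⁻¹) * k⁻¹ := hyk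
    rw [show y = g⁻¹ * (g * y * g⁻¹) * g by group, this]
    group
  exact e ▸ h.2 x hx _ (by rw [e]; exact hy)

/-- A conjugate of the data. -/
def conj (D : Hyp G) (g : G) : Hyp G where
  P := g • D.P
  S₁ := D.S₁.map (MulAut.conj g).toMonoidHom
  S₂ := D.S₂.map (MulAut.conj g).toMonoidHom
  C₁ := D.C₁.map (MulAut.conj g).toMonoidHom
  C₂ := D.C₂.map (MulAut.conj g).toMonoidHom
  dih₁ := D.dih₁.image _ fun x _ h => (MulAut.conj g).injective (by simpa using h)
  dih₂ := D.dih₂.image _ fun x _ h => (MulAut.conj g).injective (by simpa using h)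
  le₁ := by rw [Sylow.coe_subgroup_smul]; exact map_mono D.le₁
  le₂ := by rw [Sylow.coe_subgroup_smul]; exact map_mono D.le₂
  comm := by
    rintro _ ⟨a, ha, rfl⟩ _ ⟨b, hb, rfl⟩
    rw [← map_mul, ← map_mul, D.comm a ha b hb]
  disj := by
    rw [← map_inf _ _ _ (MulAut.conj g).injective, D.disj, Subgroup.map_bot]
  sup := by rw [← Subgroup.map_sup, D.sup, Sylow.coe_subgroup_smul]; rfl
  sc₁ := by rw [Sylow.coe_subgroup_smul]; exact strongly_closed_map D.sc₁ g
  sc₂ := by rw [Sylow.coe_subgroup_smul]; exact strongly_closed_map D.sc₂ g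

/-- The involutions of the first kind. -/
abbrev X₁ (D : Hyp G) : Set G := invClass D.S₁

/-- The involutions of the second kind. -/
abbrev X₂ (D : Hyp G) : Set G := invClass D.S₂

theorem X₁_conj (D : Hyp G) (g : G) : (D.conj g).X₁ = D.X₁ := invClass_map_conj _ g

theorem X₂_conj (D : Hyp G) (g : G) : (D.conj g).X₂ = D.X₂ := invClass_map_conj _ g

variable [Finite G] (D : Hyp G)

theorem mem_S₁ {x : G} (hx : x ∈ D.X₁) (hxP : x ∈ (D.P : Subgroup G)) : x ∈ D.S₁ := by
  obtain ⟨-, g, hg⟩ := hx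
  have := D.sc₁.2 _ hg g⁻¹
  rw [show g⁻¹ * (g * x * g⁻¹) * g⁻¹⁻¹ = x by group] at this
  exact this hxP

theorem mem_S₂ {x : G} (hx : x ∈ D.X₂) (hxP : x ∈ (D.P : Subgroup G)) : x ∈ D.S₂ :=
  D.swap.mem_S₁ hx hxP

theorem mem_X₁ {x : G} (hx : x ∈ D.S₁) (ho : orderOf x = 2) : x ∈ D.X₁ :=
  ⟨ho, 1, by simpa using hx⟩

theorem mem_X₂ {x : G} (hx : x ∈ D.S₂) (ho : orderOf x = 2) : x ∈ D.X₂ :=
  ⟨ho, 1, by simpa using hx⟩

theorem exists_conj {R : Subgroup G} (hR : IsPGroup 2 R) :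
    ∃ g : G, R ≤ ((D.conj g).P : Subgroup G) := by
  obtain ⟨Q, hQ⟩ := hR.exists_le_sylow
  obtain ⟨g, hg⟩ := MulAction.exists_smul_eq G D.P Q
  exact ⟨g, by show R ≤ ((g • D.P : Sylow 2 G) : Subgroup G); rw [hg]; exact hQ⟩

theorem not_both {x : G} (h₁ : x ∈ D.X₁) (h₂ : x ∈ D.X₂) : False := by
  obtain ⟨ho, g, hg⟩ := h₁
  have h2 : g * x * g⁻¹ ∈ D.S₁ ⊓ D.S₂ :=
    mem_inf.mpr ⟨hg, D.mem_S₂ (invClass_conj g h₂) (D.le₁ hg)⟩
  rw [D.disj, mem_bot] at h2
  exact Involution.ne_one_of_orderOf ho (by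
    rw [show x = g⁻¹ * (g * x * g⁻¹) * g by group, h2]; group)

theorem isPGroup_pair {x y : G} (hx : orderOf x = 2) (hy : orderOf y = 2) (hc : x * y = y * x) :
    IsPGroup 2 (Subgroup.closure ({x, y} : Set G)) :=
  Involution.isPGroup_closure_pair_of_commute (Involution.mul_self_of_orderOf hx)
    (Involution.mul_self_of_orderOf hy) hc

theorem mul_mem_X₁ {x y : G} (hx : x ∈ D.X₁) (hy : y ∈ D.X₁) (hc : x * y = y * x) (hne : x ≠ y) :
    x * y ∈ D.X₁ := by
  obtain ⟨g, hg⟩ := D.exists_conj (isPGroup_pair hx.1 hy.1 hc)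
  have hxS := (D.conj g).mem_S₁ (by rw [D.X₁_conj]; exact hx) (hg (subset_closure (by simp)))
  have hyS := (D.conj g).mem_S₁ (by rw [D.X₁_conj]; exact hy) (hg (subset_closure (by simp)))
  rw [← D.X₁_conj g]
  refine (D.conj g).mem_X₁ (mul_mem hxS hyS) (Involution.orderOf_eq_two_iff'.mpr ⟨?_, fun h => ?_⟩)
  · calc x * y * (x * y) = x * (y * x) * y := by group
      _ = (x * x) * (y * y) := by rw [← hc]; group
      _ = 1 := by rw [Involution.mul_self_of_orderOf hx.1, Involution.mul_self_of_orderOf hy.1,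
            one_mul]
  · exact hne (by rw [eq_inv_of_mul_eq_one_left h, Involution.inv_of_orderOf hy.1])

theorem exists_mul_of_mem {x : G} (hx : x ∈ (D.P : Subgroup G)) :
    ∃ a ∈ D.S₁, ∃ b ∈ D.S₂, a * b = x := by
  have h : x ∈ (D.S₁ : Set G) * (D.S₂ : Set G) := by
    rw [← coe_mul_of_left_le_normalizer_right D.S₁ D.S₂
      (le_trans (fun a ha => mem_centralizer_iff.mpr fun b hb => (D.comm a ha b hb).symm)
        (centralizer_le_normalizer _)), D.sup]
    exact hx
  exact Set.mem_mul.mp h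

theorem eq_of_mul_eq {a a' b b' : G} (ha : a ∈ D.S₁) (ha' : a' ∈ D.S₁) (hb : b ∈ D.S₂)
    (hb' : b' ∈ D.S₂) (h : a * b = a' * b') : a = a' ∧ b = b' := by
  have h1 : a'⁻¹ * a ∈ D.S₁ ⊓ D.S₂ := mem_inf.mpr ⟨mul_mem (inv_mem ha') ha, by
    rw [show a'⁻¹ * a = b' * b⁻¹ by
      rw [show a'⁻¹ * a = a'⁻¹ * (a * b) * b⁻¹ by group, h]; group]
    exact mul_mem hb' (inv_mem hb)⟩
  rw [D.disj, mem_bot, inv_mul_eq_one] at h1
  subst h1
  exact ⟨rfl, mul_left_cancel h⟩

end Hyp

/-- A four-group all of whose involutions lie in `X`. -/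
def IsFourIn (X : Set G) (E : Subgroup G) : Prop :=
  ∃ u v : G, u ∈ X ∧ v ∈ X ∧ u * v ∈ X ∧ orderOf u = 2 ∧ orderOf v = 2 ∧ u * v = v * u ∧ u ≠ v ∧
    E = Subgroup.closure {u, v}

namespace IsFourIn

variable {X : Set G} {E : Subgroup G} (hE : IsFourIn X E)
include hE

theorem mem_iff_exists : ∃ u v : G, u ∈ X ∧ v ∈ X ∧ u * v ∈ X ∧ orderOf u = 2 ∧ orderOf v = 2 ∧
    u * v = v * u ∧ u ≠ v ∧ ∀ g, g ∈ E ↔ g = 1 ∨ g = u ∨ g = v ∨ g = u * v := by
  obtain ⟨u, v, hu, hv, huv, huo, hvo, hc, hne, rfl⟩ := hE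
  refine ⟨u, v, hu, hv, huv, huo, hvo, hc, hne, fun g => ⟨fun hg => ?_, ?_⟩⟩
  · have hu2 := Involution.mul_self_of_orderOf huo
    have hv2 := Involution.mul_self_of_orderOf hvo
    have r1 : ∀ w, u * (u * w) = w := fun w => by rw [← mul_assoc, hu2, one_mul]
    have r2 : ∀ w, v * (v * w) = w := fun w => by rw [← mul_assoc, hv2, one_mul]
    have r3 : ∀ w, v * (u * w) = u * (v * w) := fun w => by rw [← mul_assoc, ← hc, mul_assoc]
    induction hg using Subgroup.closure_induction with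
    | mem w hw => rcases hw with rfl | rfl <;> simp
    | one => simp
    | mul a b _ _ ha hb =>
      rcases ha with rfl | rfl | rfl | rfl <;> rcases hb with rfl | rfl | rfl | rfl <;>
        simp [hu2, hv2, r1, r3, ← hc, mul_assoc]
    | inv a _ ha =>
      rcases ha with rfl | rfl | rfl | rfl <;>
        simp [Involution.inv_of_orderOf huo, Involution.inv_of_orderOf hvo, mul_inv_rev, ← hc]
  · rintro (rfl | rfl | rfl | rfl)
    · exact one_mem _
    · exact subset_closure (by simp)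
    · exact subset_closure (by simp)
    · exact mul_mem (subset_closure (by simp)) (subset_closure (by simp))

theorem mem_X {g : G} (hg : g ∈ E) (hg1 : g ≠ 1) : g ∈ X := by
  obtain ⟨u, v, hu, hv, huv, -, -, -, -, h⟩ := hE.mem_iff_exists
  rcases (h g).mp hg with rfl | rfl | rfl | rfl
  · exact absurd rfl hg1
  all_goals assumption

theorem sq {g : G} (hg : g ∈ E) : g * g = 1 := by
  obtain ⟨u, v, hu, hv, huv, huo, hvo, hc, hne, h⟩ := hE.mem_iff_exists
  have hu2 := Involution.mul_self_of_orderOf huo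
  have hv2 := Involution.mul_self_of_orderOf hvo
  rcases (h g).mp hg with rfl | rfl | rfl | rfl
  · simp
  · exact hu2
  · exact hv2
  · calc u * v * (u * v) = u * (v * u) * v := by group
      _ = (u * u) * (v * v) := by rw [← hc]; group
      _ = 1 := by rw [hu2, hv2, one_mul]

theorem orderOf_eq {g : G} (hg : g ∈ E) (hg1 : g ≠ 1) : orderOf g = 2 :=
  Involution.orderOf_eq_two_iff'.mpr ⟨hE.sq hg, hg1⟩

theorem fourLike [Finite G] : FourLike E := by
  obtain ⟨u, v, hu, hv, huv, huo, hvo, hc, hne, h⟩ := hE.mem_iff_exists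
  have hinv : ∀ x ∈ E, x⁻¹ = x := fun x hx => inv_eq_of_mul_eq_one_right (hE.sq hx)
  refine ⟨⟨⟨fun a b => Subtype.ext ?_⟩⟩, fun hc' => ?_, ?_⟩
  · show (a : G) * b = b * a
    have := hinv _ (mul_mem a.2 b.2)
    rw [mul_inv_rev, hinv _ a.2, hinv _ b.2] at this
    exact this.symm
  · haveI := hc'
    refine hne (congrArg Subtype.val (Involution.involution_unique_of_isCyclic
      (a := (⟨u, (h u).mpr (by simp)⟩ : E)) (b := ⟨v, (h v).mpr (by simp)⟩)
      (by rw [orderOf_mk, huo]) (by rw [orderOf_mk, hvo])))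
  · intro a ha b hb ha1 hb1 hab g hg
    have hu2 := Involution.mul_self_of_orderOf huo
    have hv2 := Involution.mul_self_of_orderOf hvo
    have r1 : ∀ w, u * (u * w) = w := fun w => by rw [← mul_assoc, hu2, one_mul]
    have r2 : ∀ w, v * (v * w) = w := fun w => by rw [← mul_assoc, hv2, one_mul]
    have r3 : ∀ w, v * (u * w) = u * (v * w) := fun w => by rw [← mul_assoc, ← hc, mul_assoc]
    rcases (h a).mp ha with rfl | rfl | rfl | rfl <;>
      rcases (h b).mp hb with rfl | rfl | rfl | rfl <;>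
      first
        | exact absurd rfl ha1
        | exact absurd rfl hb1
        | exact absurd rfl hab
        | (rcases (h g).mp hg with rfl | rfl | rfl | rfl <;>
            simp [hu2, hv2, r1, r3, ← hc, mul_assoc])

theorem isPGroup [Finite G] : IsPGroup 2 E := fun x =>
  ⟨1, Subtype.ext (by simpa [pow_two] using hE.sq x.2)⟩

theorem exists_other [Finite G] (g : G) : ∃ u ∈ E, u ≠ 1 ∧ u ≠ g :=
  hE.fourLike.exists_ne g

theorem coprime [Finite G] {K : Subgroup G} (hK : Odd (Nat.card K)) :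
    (Nat.card E).Coprime (Nat.card K) := by
  haveI := Fact.mk Nat.prime_two
  obtain ⟨n, hn⟩ := IsPGroup.iff_card.mp hE.isPGroup
  rw [hn]
  exact (Nat.coprime_two_left.mpr hK).pow_left n

theorem of_conj {Y : Set G} (g : G) (hY : ∀ x ∈ X, g * x * g⁻¹ ∈ Y) :
    IsFourIn Y (E.map (MulAut.conj g).toMonoidHom) := by
  obtain ⟨u, v, hu, hv, huv, huo, hvo, hc, hne, rfl⟩ := hE
  refine ⟨g * u * g⁻¹, g * v * g⁻¹, hY u hu, hY v hv, ?_, ?_, ?_, ?_, ?_, ?_⟩
  · rw [show g * u * g⁻¹ * (g * v * g⁻¹) = g * (u * v) * g⁻¹ by group]; exact hY _ huv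
  · rw [Involution.orderOf_conj, huo]
  · rw [Involution.orderOf_conj, hvo]
  · calc g * u * g⁻¹ * (g * v * g⁻¹) = g * (u * v) * g⁻¹ := by group
      _ = g * (v * u) * g⁻¹ := by rw [hc]
      _ = _ := by group
  · exact fun h => hne ((MulAut.conj g).injective h)
  · rw [MonoidHom.map_closure]
    congr 1
    simp [Set.image_insert_eq, mul_assoc]

end IsFourIn

theorem Hyp.isFourIn [Finite G] (D : Hyp G) {u v : G} (hu : u ∈ D.X₁) (hv : v ∈ D.X₁)
    (hc : u * v = v * u) (hne : u ≠ v) : IsFourIn D.X₁ (Subgroup.closure {u, v}) :=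
  ⟨u, v, hu, hv, D.mul_mem_X₁ hu hv hc hne, hu.1, hv.1, hc, hne, rfl⟩

/-- The odd core of the centraliser of `a`, as a subgroup of `G`. -/
def oc (a : G) : Subgroup G :=
  (pPrimeCore 2 (centralizer ({a} : Set G))).map (centralizer ({a} : Set G)).subtype

theorem oc_le (a : G) : oc a ≤ centralizer {a} := map_subtype_le _

theorem oc_comm {a x : G} (hx : x ∈ oc a) : x * a = a * x :=
  mem_centralizer_singleton_iff.mp (oc_le a hx)

theorem odd_card_oc [Finite G] (a : G) : Odd (Nat.card (oc a)) := by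
  rw [oc, card_subtype]
  exact Nat.coprime_two_right.mp Thompson.card_pPrimeCore_coprime

theorem odd_orderOf_oc [Finite G] {a x : G} (hx : x ∈ oc a) : Odd (orderOf x) :=
  (odd_card_oc a).of_dvd_nat ((oc a).orderOf_dvd_natCard hx)

theorem solvable_oc [Finite G] (a : G) : Group.IsSolvable (oc a) :=
  PF14.feitThompson _ (odd_card_oc a)

theorem centralizer_le_normalizer_oc (a : G) :
    centralizer ({a} : Set G) ≤ normalizer (oc a : Set G) :=
  Coprime.le_normalizer_of_conj_mem fun g hg x hx => by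
    obtain ⟨y, hy, rfl⟩ := hx
    exact ⟨⟨g, hg⟩ * y * ⟨g, hg⟩⁻¹, Thompson.instPPrimeCoreNormal.conj_mem y hy ⟨g, hg⟩, rfl⟩

theorem le_oc [Finite G] {a : G} {N : Subgroup G} (hN : N ≤ centralizer {a})
    (hn : centralizer ({a} : Set G) ≤ normalizer (N : Set G)) (hodd : Odd (Nat.card N)) :
    N ≤ oc a := by
  rw [← map_subgroupOf_eq_of_le hN]
  refine map_mono (Thompson.le_pPrimeCore ((normal_subgroupOf_iff_le_normalizer hN).mpr hn) ?_)
  rw [Nat.card_congr (subgroupOfEquivOfLe hN).toEquiv]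
  exact Nat.coprime_two_right.mpr hodd

theorem map_conj_oc [Finite G] (g a : G) :
    (oc a).map (MulAut.conj g).toMonoidHom = oc (g * a * g⁻¹) := by
  suffices h : ∀ g a : G, (oc a).map (MulAut.conj g).toMonoidHom ≤ oc (g * a * g⁻¹) by
    refine le_antisymm (h g a) fun x hx => ?_
    have h2 := h g⁻¹ (g * a * g⁻¹) (mem_map_of_mem _ hx)
    rw [show g⁻¹ * (g * a * g⁻¹) * g⁻¹⁻¹ = a by group] at h2
    exact ⟨_, h2, by simp [mul_assoc]⟩
  intro g a
  refine le_oc ?_ ?_ ?_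
  · rintro _ ⟨x, hx, rfl⟩
    refine mem_centralizer_singleton_iff.mpr ?_
    show g * x * g⁻¹ * (g * a * g⁻¹) = g * a * g⁻¹ * (g * x * g⁻¹)
    calc g * x * g⁻¹ * (g * a * g⁻¹) = g * (x * a) * g⁻¹ := by group
      _ = g * (a * x) * g⁻¹ := by rw [oc_comm hx]
      _ = _ := by group
  · refine Coprime.le_normalizer_of_conj_mem fun k hk => ?_
    rintro _ ⟨x, hx, rfl⟩
    refine ⟨(g⁻¹ * k * g) * x * (g⁻¹ * k * g)⁻¹, conj_mem_of_mem_normalizer
      (centralizer_le_normalizer_oc a ?_) hx, by simp [mul_assoc]⟩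
    rw [mem_centralizer_singleton_iff] at hk ⊢
    calc g⁻¹ * k * g * a = g⁻¹ * (k * (g * a * g⁻¹)) * g := by group
      _ = g⁻¹ * (g * a * g⁻¹ * k) * g := by rw [hk]
      _ = a * (g⁻¹ * k * g) := by group
  · rw [card_map_of_injective (MulAut.conj g).injective]
    exact odd_card_oc a

theorem map_oc_normalizer [Finite G] {a g : G} (hg : g * a = a * g) :
    g ∈ normalizer (oc a : Set G) :=
  centralizer_le_normalizer_oc a (mem_centralizer_singleton_iff.mpr hg)

end Cfsg.Agent.ProdFus42
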