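import Cfsg.Agent.SFT45.Tools
import Cfsg.Agent.Lib.Coprime.Abelian

/-!
# The fixed points of `[X, V]` for a four-group `V` acting coprimely on a solvable group `X`

If `D` is normal in `C_X(V)` and contains the fixed points of `[C_X(v), V]` for every `v ≠ 1`,
then it contains the fixed points of `[X, V]`.
-/

set_option autoImplicit false
set_option linter.style.haveILetI false
set_option linter.unusedSectionVars false

namespace Cfsg.Agent.ProdFus42

open Subgroup Coprime
open scoped commutatorElement Pointwise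

variable {G : Type*} [Group G]

/-- Two distinct nonidentity elements of `V` and their product exhaust `V`. -/
def FourLike (V : Subgroup G) : Prop :=
  IsMulCommutative V ∧ ¬ IsCyclic V ∧ ∀ u ∈ V, ∀ v ∈ V, u ≠ 1 → v ≠ 1 → u ≠ v →
    ∀ g ∈ V, g = 1 ∨ g = u ∨ g = v ∨ g = u * v

theorem FourLike.exists_ne {V : Subgroup G} (hV : FourLike V) (v : G) :
    ∃ u ∈ V, u ≠ 1 ∧ u ≠ v := by
  by_contra h
  push Not at h
  rcases em (v ∈ V) with hv | hv
  · refine hV.2.1 ⟨⟨⟨v, hv⟩, fun g => ?_⟩⟩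
    rcases eq_or_ne (g : G) 1 with hg | hg
    · exact ⟨0, Subtype.ext (by simp [hg])⟩
    · exact ⟨1, Subtype.ext (by simp [h g g.2 hg])⟩
  · refine hV.2.1 ⟨⟨1, fun g => ?_⟩⟩
    rcases eq_or_ne (g : G) 1 with hg | hg
    · exact ⟨0, Subtype.ext (by simp [hg])⟩
    · exact absurd (h g g.2 hg ▸ g.2) hv

theorem FourLike.le_centralizer {V : Subgroup G} (hV : FourLike V) :
    V ≤ centralizer (V : Set G) := fun x hx => mem_centralizer_iff.mpr fun y hy => by
  haveI := hV.1
  exact congrArg Subtype.val (mul_comm' (⟨y, hy⟩ : V) ⟨x, hx⟩)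

/-- `V` acts on the elements fixed by `u` as `v` does. -/
theorem commutator_le_zpowers {V K : Subgroup G} (hV : FourLike V) {u v : G} (hu : u ∈ V)
    (hv : v ∈ V) (hu1 : u ≠ 1) (hv1 : v ≠ 1) (huv : u ≠ v) (hK : K ≤ centralizer {u}) :
    ⁅K, V⁆ ≤ ⁅K, zpowers v⁆ := by
  refine commutator_le.mpr fun k hk g hg => ?_
  have hku : k * u = u * k := mem_centralizer_singleton_iff.mp (hK hk)
  have hvu : u * v = v * u :=
    (mem_centralizer_iff.mp (hV.le_centralizer hv) u hu)
  have h1 : ⁅k, u⁆ = 1 := commutatorElement_eq_one_iff_commute.mpr hku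
  rcases hV.2.2 u hu v hv hu1 hv1 huv g hg with rfl | rfl | rfl | rfl
  · simp
  · rw [h1]; exact one_mem _
  · exact commutator_mem_commutator hk (mem_zpowers _)
  · have h2 : ⁅k, v * u⁆ = ⁅k, v⁆ := by
      rw [show ⁅k, v * u⁆ = ⁅k, v⁆ * (v * ⁅k, u⁆ * v⁻¹) by simp [commutatorElement_def, mul_assoc],
        h1]
      simp
    rw [hvu, h2]
    exact commutator_mem_commutator hk (mem_zpowers _)

/-- In a group with central fixed commutators, `C_N(v)` centralises `[N, v]`. -/
theorem commutator_zpowers_le_centralizer {N V K : Subgroup G} {v : G} (hv : v ∈ V)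
    (hVN : V ≤ normalizer (N : Set G)) (hN : ∀ x ∈ N, ∀ y ∈ N, ⁅x, y⁆ ∈ centralizer (V : Set G))
    (hNc : ∀ x ∈ N, ∀ y ∈ N, ∀ z ∈ N, Commute ⁅x, y⁆ z) (hK : K ≤ N ⊓ centralizer {v}) :
    ⁅N, zpowers v⁆ ≤ centralizer (K : Set G) := by
  refine commutator_le.mpr fun y hy g hg => mem_centralizer_iff.mpr fun x hx => ?_
  obtain ⟨hxN, hxv⟩ := mem_inf.mp (hK hx)
  have hxg : x * g = g * x := by
    rw [← SFT45.centralizer_zpowers] at hxv
    exact (mem_centralizer_iff.mp hxv g hg).symm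
  set c := ⁅x, y⁻¹⁆ with hc
  have hgV : g ∈ V := zpowers_le.mpr hv hg
  have hcg : g * c = c * g := mem_centralizer_iff.mp (hN x hxN _ (inv_mem hy)) g hgV
  have hcx : Commute c x := hNc x hxN _ (inv_mem hy) x hxN
  have hcy : Commute c y := hNc x hxN _ (inv_mem hy) y hy
  have hcg' : Commute c (g * y⁻¹ * g⁻¹) :=
    hNc x hxN _ (inv_mem hy) _ (conj_mem_of_mem_normalizer (hVN hgV) (inv_mem hy))
  have e1 : x * y⁻¹ * x⁻¹ = c * y⁻¹ := by simp [hc, commutatorElement_def, mul_assoc]
  have e2 : x * y * x⁻¹ = y * c⁻¹ := by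
    have := congrArg (fun t => t⁻¹) e1
    simpa [mul_assoc] using this
  have e3 : x * (g * y⁻¹ * g⁻¹) * x⁻¹ = c * (g * y⁻¹ * g⁻¹) := by
    calc x * (g * y⁻¹ * g⁻¹) * x⁻¹ = (x * g) * y⁻¹ * (x * g)⁻¹ := by group
      _ = (g * x) * y⁻¹ * (g * x)⁻¹ := by rw [hxg]
      _ = g * (x * y⁻¹ * x⁻¹) * g⁻¹ := by group
      _ = g * (c * y⁻¹) * g⁻¹ := by rw [e1]
      _ = (g * c) * y⁻¹ * g⁻¹ := by group
      _ = (c * g) * y⁻¹ * g⁻¹ := by rw [hcg]
      _ = c * (g * y⁻¹ * g⁻¹) := by group
  have e4 : x * ⁅y, g⁆ * x⁻¹ = ⁅y, g⁆ := by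
    calc x * ⁅y, g⁆ * x⁻¹ = (x * y * x⁻¹) * (x * (g * y⁻¹ * g⁻¹) * x⁻¹) := by
          simp [commutatorElement_def, mul_assoc]
      _ = y * c⁻¹ * (c * (g * y⁻¹ * g⁻¹)) := by rw [e2, e3]
      _ = ⁅y, g⁆ := by simp [commutatorElement_def, mul_assoc]
  calc x * ⁅y, g⁆ = x * ⁅y, g⁆ * x⁻¹ * x := by group
    _ = ⁅y, g⁆ * x := by rw [e4]

variable [Finite G]

theorem solvable_four {V : Subgroup G} (hV : FourLike V) : Group.IsSolvable V := by
  haveI := hV.1
  exact Group.isSolvable_of_comm fun a b => mul_comm' a b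

/-- A nontrivial invariant normal subgroup whose fixed points lie in `D`. -/
theorem exists_normal_inf_le {V X D : Subgroup G} (hV : FourLike V)
    (hVX : V ≤ normalizer (X : Set G)) (hcop : (Nat.card V).Coprime (Nat.card X))
    (hsolv : Group.IsSolvable X) (hXV : ⁅X, V⁆ = X) (hne : X ≠ ⊥)
    (hD : D ≤ X ⊓ centralizer (V : Set G))
    (hDn : X ⊓ centralizer (V : Set G) ≤ normalizer (D : Set G))
    (hgen : ∀ v ∈ V, v ≠ 1 → ⁅X ⊓ centralizer {v}, V⁆ ⊓ centralizer (V : Set G) ≤ D) :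
    ∃ E : Subgroup G, E ≤ X ∧ E ≠ ⊥ ∧ X ≤ normalizer (E : Set G) ∧ V ≤ normalizer (E : Set G) ∧
      E ⊓ centralizer (V : Set G) ≤ D := by
  haveI := hV.1
  have hVs := solvable_four hV
  set CV : Subgroup G := centralizer (V : Set G) with hCV
  have hVCV : V ≤ normalizer (CV : Set G) :=
    hV.le_centralizer.trans le_normalizer
  set Z : Subgroup G := X ⊓ centralizer (X : Set G) ⊓ CV with hZ
  by_cases hDZ : D ⊓ Z ≠ ⊥
  · refine ⟨D ⊓ Z, inf_le_right.trans (inf_le_left.trans inf_le_left), hDZ, ?_, ?_,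
      inf_le_left.trans inf_le_left⟩
    · refine le_trans ?_ (centralizer_le_normalizer _)
      exact le_centralizer_iff.mp (inf_le_right.trans (inf_le_left.trans inf_le_right))
    · refine le_trans ?_ (centralizer_le_normalizer _)
      exact le_centralizer_iff.mp (inf_le_left.trans (hD.trans inf_le_right))
  push Not at hDZ
  -- the last term of the derived series outside `Z`
  haveI := hsolv
  obtain ⟨k, hk⟩ := (Group.isSolvable_def (G := X)).mp hsolv
  let Dj : ℕ → Subgroup G := fun j => (derivedSeries X j).map X.subtype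
  have hDjX : ∀ j, Dj j ≤ X := fun j => map_subtype_le _
  have hDj0 : Dj 0 = X := by simp [Dj, ← MonoidHom.range_eq_map]
  have hsucc : ∀ j, Dj (j + 1) = ⁅Dj j, Dj j⁆ := fun j => by
    simp [Dj, map_commutator]
  have hnot : ¬ X ≤ Z := by
    intro h
    refine hne ?_
    rw [← hXV, commutator_eq_bot_iff_le_centralizer]
    exact h.trans inf_le_right
  have hex : ∃ j, Dj j ≤ Z := ⟨k, by simp [Dj, hk]⟩
  classical
  obtain ⟨i, hi⟩ : ∃ i, Nat.find hex = i + 1 := Nat.exists_eq_succ_of_ne_zero fun h => hnot (by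
    have := Nat.find_spec hex
    rwa [h, hDj0] at this)
  have hiZ : Dj (i + 1) ≤ Z := hi ▸ Nat.find_spec hex
  have hni : ¬ Dj i ≤ Z := Nat.find_min hex (by omega)
  have hXn : ∀ j, X ≤ normalizer (Dj j : Set G) ∧ V ≤ normalizer (Dj j : Set G) := fun j =>
    ⟨le_normalizer.trans (normalizer_le_normalizer_map X _),
      hVX.trans (normalizer_le_normalizer_map X _)⟩
  set N : Subgroup G := Dj i with hN
  have hNX : N ≤ X := hDjX i
  obtain ⟨hXN, hVN⟩ := hXn i
  have hNN : ∀ x ∈ N, ∀ y ∈ N, ⁅x, y⁆ ∈ Z := fun x hx y hy =>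
    hiZ (hsucc i ▸ commutator_mem_commutator hx hy)
  have hNc : ∀ x ∈ N, ∀ y ∈ N, ∀ z ∈ N, Commute ⁅x, y⁆ z := fun x hx y hy z hz =>
    ((mem_centralizer_iff.mp (mem_inf.mp (mem_inf.mp (hNN x hx y hy)).1).2 z (hNX hz))).symm
  -- `V` does not centralise `N`
  have hNV : ⁅N, V⁆ ≠ ⊥ := by
    intro h
    rw [commutator_eq_bot_iff_le_centralizer] at h
    refine hni (le_inf (le_inf hNX ?_) h)
    rw [le_centralizer_iff]
    refine le_of_eq_of_le hXV.symm (commutator_le.mpr fun x hx v hv => mem_centralizer_iff.mpr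
      fun n hn => ?_)
    have hnx : x⁻¹ * n * x ∈ N := conj_mem_of_mem_normalizer' (hXN hx) hn
    have h1 : v * (x⁻¹ * n * x) = x⁻¹ * n * x * v := mem_centralizer_iff.mp (h hnx) v hv
    have h2 : v * n = n * v := mem_centralizer_iff.mp (h hn) v hv
    have e : x * v * x⁻¹ * n = n * (x * v * x⁻¹) := by
      calc x * v * x⁻¹ * n = x * (v * (x⁻¹ * n * x)) * x⁻¹ := by group
        _ = x * (x⁻¹ * n * x * v) * x⁻¹ := by rw [h1]
        _ = n * (x * v * x⁻¹) := by group
    have h3 : v⁻¹ * n = n * v⁻¹ := (Commute.inv_left h2).eq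
    calc n * ⁅x, v⁆ = n * (x * v * x⁻¹) * v⁻¹ := by simp [commutatorElement_def, mul_assoc]
      _ = x * v * x⁻¹ * (n * v⁻¹) := by rw [← e]; group
      _ = x * v * x⁻¹ * (v⁻¹ * n) := by rw [h3]
      _ = ⁅x, v⁆ * n := by simp [commutatorElement_def, mul_assoc]
  -- the pieces
  let ι := {v : G // v ∈ V ∧ v ≠ 1}
  let Cv : G → Subgroup G := fun v => centralizer {v}
  have hVC : ∀ v ∈ V, V ≤ normalizer (Cv v : Set G) := fun v hv => by
    refine le_trans (fun x hx => ?_) le_normalizer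
    exact mem_centralizer_singleton_iff.mpr (mem_centralizer_iff.mp (hV.le_centralizer hx) v hv).symm
  have hCVC : ∀ v ∈ V, CV ≤ normalizer (Cv v : Set G) := fun v hv =>
    (centralizer_le (Set.singleton_subset_iff.mpr hv)).trans le_normalizer
  let Y : ι → Subgroup G := fun v => ⁅N ⊓ Cv v, V⁆
  have hYN : ∀ v : ι, Y v ≤ N ⊓ Cv v := fun v =>
    Coprime.commutator_le_of_le_normalizer (Coprime.le_normalizer_inf hVN (hVC v v.2.1))
  have hYu : ∀ u v : ι, (u : G) ≠ v → Y u ≤ ⁅N, zpowers (v : G)⁆ := fun u v huv =>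
    (commutator_le_zpowers hV u.2.1 v.2.1 u.2.2 v.2.2 huv inf_le_right).trans
      (commutator_mono inf_le_left le_rfl)
  have hNCV : ∀ x ∈ N, ∀ y ∈ N, ⁅x, y⁆ ∈ CV := fun x hx y hy => (mem_inf.mp (hNN x hx y hy)).2
  set Dn : Subgroup G := D ⊓ N with hDn'
  set Ya : Subgroup G := ⨆ v, Y v with hYa
  set E : Subgroup G := Ya ⊔ Dn with hE
  -- `E` is commutative
  have hYY : ∀ u v : ι, Y u ≤ centralizer (Y v : Set G) := by
    intro u v
    rcases eq_or_ne u v with rfl | huv
    · intro x hx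
      refine mem_centralizer_iff.mpr fun y hy => ?_
      have h1 : ⁅y, x⁆ ∈ D ⊓ Z := mem_inf.mpr ⟨hgen u u.2.1 u.2.2 (mem_inf.mpr ⟨?_,
        hNCV y (mem_inf.mp (hYN u hy)).1 x (mem_inf.mp (hYN u hx)).1⟩),
        hNN y (mem_inf.mp (hYN u hy)).1 x (mem_inf.mp (hYN u hx)).1⟩
      · rw [hDZ, mem_bot] at h1
        exact commutatorElement_eq_one_iff_commute.mp h1
      · have hm : Y u ≤ ⁅X ⊓ centralizer {(u : G)}, V⁆ :=
          commutator_mono (inf_le_inf_right _ hNX) le_rfl
        rw [commutatorElement_def]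
        exact mul_mem (mul_mem (mul_mem (hm hy) (hm hx)) (inv_mem (hm hy))) (inv_mem (hm hx))
    · exact (hYu u v fun h => huv (Subtype.ext h)).trans
        ((commutator_zpowers_le_centralizer v.2.1 hVN hNCV hNc le_rfl).trans
          (centralizer_le (hYN v)))
  have hDY : ∀ v : ι, Y v ≤ centralizer (Dn : Set G) := by
    intro v
    obtain ⟨u, hu, hu1, huv⟩ := hV.exists_ne v
    exact (hYu v ⟨u, hu, hu1⟩ (Ne.symm huv)).trans
      (commutator_zpowers_le_centralizer hu hVN hNCV hNc (le_inf inf_le_right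
        (inf_le_left.trans (hD.trans (inf_le_right.trans
          (centralizer_le (Set.singleton_subset_iff.mpr hu)))))))
  have hDD : Dn ≤ centralizer (Dn : Set G) := fun x hx => mem_centralizer_iff.mpr fun y hy => by
    obtain ⟨hxD, hxN⟩ := mem_inf.mp hx
    obtain ⟨hyD, hyN⟩ := mem_inf.mp hy
    have h1 : ⁅y, x⁆ ∈ D ⊓ Z := mem_inf.mpr ⟨by
      rw [commutatorElement_def]
      exact mul_mem (mul_mem (mul_mem hyD hxD) (inv_mem hyD)) (inv_mem hxD), hNN y hyN x hxN⟩
    rw [hDZ, mem_bot] at h1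
    exact commutatorElement_eq_one_iff_commute.mp h1
  have hYaD : Ya ≤ centralizer (Dn : Set G) := iSup_le hDY
  have hYaY : Ya ≤ centralizer (Ya : Set G) := iSup_le fun u => le_centralizer_iff.mp
    (iSup_le fun v => le_centralizer_iff.mp (hYY u v))
  have hEE : E ≤ centralizer (E : Set G) := by
    refine sup_le (le_centralizer_iff.mp (sup_le ?_ ?_)) (le_centralizer_iff.mp (sup_le ?_ ?_))
    · exact hYaY
    · exact le_centralizer_iff.mp hYaD
    · exact hYaD
    · exact hDD
  haveI hEc : IsMulCommutative E :=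
    ⟨⟨fun a b => Subtype.ext (mem_centralizer_iff.mp (hEE b.2) a a.2)⟩⟩
  have hEN : E ≤ N := sup_le (iSup_le fun v => (hYN v).trans inf_le_left) inf_le_right
  -- `[N, V] ≤ Ya`
  have hVY : V ≤ normalizer (Ya : Set G) := SFT45.le_normalizer_iSup fun v =>
    SFT45.le_normalizer_commutator (Coprime.le_normalizer_inf hVN (hVC v v.2.1)) le_normalizer
  have hpiece : ∀ v : ι, N ⊓ Cv v ≤ Y v ⊔ (N ⊓ CV) := fun v => by
    intro x hx
    have := Coprime.commutator_sup_centralizer V (N ⊓ Cv v)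
      (Coprime.le_normalizer_inf hVN (hVC v v.2.1))
      (hcop.coprime_dvd_right (card_dvd_of_le (inf_le_left.trans hNX))) (Or.inl hVs)
    exact (sup_le_sup_left (inf_le_inf_right CV inf_le_left) (Y v) : _) (this.ge hx)
  have hNgen : ∀ H : Subgroup G, (∀ v : ι, N ⊓ Cv v ≤ H) → N ≤ H := fun H hH =>
    Coprime.le_of_centralizer_le V N H hV.2.1 hVN
      (hcop.coprime_dvd_right (card_dvd_of_le hNX)) fun v hv hv1 => hH ⟨v, hv, hv1⟩
  have hNY : N ≤ normalizer (Ya : Set G) := hNgen _ fun v => (hpiece v).trans (sup_le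
    ((le_iSup Y v).trans le_normalizer) (SFT45.le_normalizer_iSup fun w =>
      SFT45.le_normalizer_commutator (Coprime.le_normalizer_inf
        (inf_le_left.trans le_normalizer) (inf_le_right.trans (hCVC w w.2.1)))
        (inf_le_right.trans (centralizer_le_normalizer _))))
  have hNVY : ⁅N, V⁆ ≤ Ya := by
    let K0 : Subgroup G :=
      { carrier := {x | x ∈ N ∧ ∀ g ∈ V, ⁅x, g⁆ ∈ Ya}
        one_mem' := ⟨one_mem _, fun g _ => by simp⟩
        mul_mem' := by
          rintro x y ⟨hx, hx'⟩ ⟨hy, hy'⟩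
          refine ⟨mul_mem hx hy, fun g hg => ?_⟩
          rw [show ⁅x * y, g⁆ = (x * ⁅y, g⁆ * x⁻¹) * ⁅x, g⁆ by
            simp [commutatorElement_def, mul_assoc]]
          exact mul_mem (conj_mem_of_mem_normalizer (hNY hx) (hy' g hg)) (hx' g hg)
        inv_mem' := by
          rintro x ⟨hx, hx'⟩
          refine ⟨inv_mem hx, fun g hg => ?_⟩
          rw [show ⁅x⁻¹, g⁆ = x⁻¹ * ⁅x, g⁆⁻¹ * x⁻¹⁻¹ by simp [commutatorElement_def, mul_assoc]]
          exact conj_mem_of_mem_normalizer (hNY (inv_mem hx)) (inv_mem (hx' g hg)) }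
    have hK : N ≤ K0 := hNgen K0 fun v x hx => ⟨(mem_inf.mp hx).1, fun g hg =>
      mem_iSup_of_mem v (commutator_mem_commutator hx hg)⟩
    exact commutator_le.mpr fun x hx g hg => (hK hx).2 g hg
  refine ⟨E, hEN.trans hNX, ?_, ?_, ?_, ?_⟩
  · exact fun h => hNV (eq_bot_iff.mpr (hNVY.trans (le_sup_left.trans h.le)))
  · -- invariance under `X`
    refine Coprime.le_of_centralizer_le V X _ hV.2.1 hVX hcop fun v hv hv1 => ?_
    set vv : ι := ⟨v, hv, hv1⟩ with hvv
    set Cx : Subgroup G := X ⊓ centralizer {v} with hCx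
    set Mv : Subgroup G := ⁅Cx, V⁆ ⊓ N with hMv
    have hVCx : V ≤ normalizer (Cx : Set G) := Coprime.le_normalizer_inf hVX (hVC v hv)
    have hcx : (Nat.card V).Coprime (Nat.card Cx) :=
      hcop.coprime_dvd_right (card_dvd_of_le inf_le_left)
    have hMvE : Mv ≤ E := by
      intro c hc
      have hcC : c ∈ N ⊓ Cv v := mem_inf.mpr ⟨(mem_inf.mp hc).2, (mem_inf.mp
        (Coprime.commutator_le_of_le_normalizer hVCx (mem_inf.mp hc).1)).2⟩
      obtain ⟨y, hy, c0, hc0, rfl⟩ := Coprime.exists_commutator_mul_centralizer V (N ⊓ Cv v)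
        (Coprime.le_normalizer_inf hVN (hVC v hv))
        (hcop.coprime_dvd_right (card_dvd_of_le (inf_le_left.trans hNX))) (Or.inl hVs) c hcC
      have hyM : y ∈ ⁅Cx, V⁆ := commutator_mono (inf_le_inf_right _ hNX) le_rfl hy
      refine mul_mem (mem_sup_left (mem_iSup_of_mem vv hy)) (mem_sup_right (mem_inf.mpr
        ⟨hgen v hv hv1 (mem_inf.mpr ⟨?_, (mem_inf.mp hc0).2⟩), (mem_inf.mp (mem_inf.mp hc0).1).1⟩))
      simpa using mul_mem (inv_mem hyM) (mem_inf.mp hc).1
    have hCxM : Cx ≤ normalizer (Mv : Set G) := Coprime.le_normalizer_inf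
      (Coprime.le_normalizer_commutator_left V Cx) (inf_le_left.trans hXN)
    refine Coprime.le_normalizer_of_conj_mem fun g hg x hx => ?_
    have hgX : g ∈ X := (mem_inf.mp hg).1
    suffices E ≤ E.comap (MulAut.conj g).toMonoidHom from this hx
    refine sup_le (iSup_le fun u => ?_) fun d hd => ?_
    · rcases eq_or_ne (u : G) v with huv | huv
      · intro y hy
        have hyM : y ∈ Mv := mem_inf.mpr ⟨commutator_mono (inf_le_inf_right _ hNX) le_rfl
          (by simpa [Y, Cv, huv] using hy), (mem_inf.mp (hYN u hy)).1⟩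
        exact hMvE (conj_mem_of_mem_normalizer (hCxM hg) hyM)
      · refine (hYu u vv huv).trans (commutator_le.mpr fun n hn z hz => ?_)
        show g * ⁅n, z⁆ * g⁻¹ ∈ E
        have hgz : g * z = z * g := by
          have h2 := (mem_inf.mp hg).2
          rw [← SFT45.centralizer_zpowers] at h2
          exact (mem_centralizer_iff.mp h2 z hz).symm
        have hgz' : g * z * g⁻¹ = z := by rw [hgz]; simp
        rw [show g * ⁅n, z⁆ * g⁻¹ = ⁅g * n * g⁻¹, g * z * g⁻¹⁆ by
          simp [commutatorElement_def, mul_assoc], hgz']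
        exact mem_sup_left (hNVY (commutator_mem_commutator
          (conj_mem_of_mem_normalizer (hXN hgX) hn) (zpowers_le.mpr hv hz)))
    · show g * d * g⁻¹ ∈ E
      obtain ⟨h, hh, c, hc, rfl⟩ :=
        Coprime.exists_commutator_mul_centralizer V Cx hVCx hcx (Or.inl hVs) g hg
      obtain ⟨hdD, hdN⟩ := mem_inf.mp hd
      have hcX : c ∈ X ⊓ CV := mem_inf.mpr ⟨(mem_inf.mp (mem_inf.mp hc).1).1, (mem_inf.mp hc).2⟩
      set d' := c * d * c⁻¹ with hd'
      have hd'D : d' ∈ D := conj_mem_of_mem_normalizer (hDn hcX) hdD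
      have hd'N : d' ∈ N := conj_mem_of_mem_normalizer (hXN (mem_inf.mp hcX).1) hdN
      have hd'C : d' ∈ Cx := mem_inf.mpr ⟨hNX hd'N,
        centralizer_le (Set.singleton_subset_iff.mpr hv) (mem_inf.mp (hD hd'D)).2⟩
      have hhX : h ∈ X := (mem_inf.mp (Coprime.commutator_le_of_le_normalizer hVCx hh)).1
      have hM : ⁅h, d'⁆ ∈ Mv := by
        refine mem_inf.mpr ⟨?_, ?_⟩
        · rw [show ⁅h, d'⁆ = h * (d' * h⁻¹ * d'⁻¹) by simp [commutatorElement_def, mul_assoc]]
          exact mul_mem hh (conj_mem_of_mem_normalizer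
            (Coprime.le_normalizer_commutator_left V Cx hd'C) (inv_mem hh))
        · rw [show ⁅h, d'⁆ = (h * d' * h⁻¹) * d'⁻¹ by simp [commutatorElement_def, mul_assoc]]
          exact mul_mem (conj_mem_of_mem_normalizer (hXN hhX) hd'N) (inv_mem hd'N)
      rw [show h * c * d * (h * c)⁻¹ = ⁅h, d'⁆ * d' by
        simp [hd', commutatorElement_def, mul_assoc]]
      exact mul_mem (hMvE hM) (mem_sup_right (mem_inf.mpr ⟨hd'D, hd'N⟩))
  · refine Coprime.le_normalizer_sup hVY (le_trans ?_ (centralizer_le_normalizer _))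
    exact le_centralizer_iff.mp (inf_le_left.trans (hD.trans inf_le_right))
  · intro e he
    obtain ⟨heE, heC⟩ := mem_inf.mp he
    have hmul : e ∈ (Ya : Set G) * (Dn : Set G) := by
      rw [← coe_mul_of_left_le_normalizer_right Ya Dn (hYaD.trans (centralizer_le_normalizer _))]
      exact heE
    obtain ⟨y, hy, d, hd, rfl⟩ := Set.mem_mul.mp hmul
    have hdC : d ∈ CV := (mem_inf.mp (hD (mem_inf.mp hd).1)).2
    have hyC : y ∈ CV := by simpa using mul_mem heC (inv_mem hdC)
    have hVE : V ≤ normalizer (E : Set G) :=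
      Coprime.le_normalizer_sup hVY ((le_centralizer_iff.mp
        (inf_le_left.trans (hD.trans inf_le_right))).trans (centralizer_le_normalizer _))
    have hYE : Ya ≤ ⁅E, V⁆ := iSup_le fun v => by
      have hc : (Nat.card V).Coprime (Nat.card (N ⊓ Cv v : Subgroup G)) :=
        hcop.coprime_dvd_right (card_dvd_of_le (inf_le_left.trans hNX))
      refine le_of_eq_of_le (Coprime.commutator_commutator_eq V (N ⊓ Cv v)
        (Coprime.le_normalizer_inf hVN (hVC v v.2.1)) hc (Or.inl hVs)).symm ?_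
      exact commutator_mono ((le_iSup Y v).trans le_sup_left) le_rfl
    have h0 : y ∈ ⁅E, V⁆ ⊓ CV := mem_inf.mpr ⟨hYE hy, hyC⟩
    rw [hCV, Coprime.commutator_inf_centralizer_eq_bot V E hVE
      (hcop.coprime_dvd_right (card_dvd_of_le (hEN.trans hNX))), mem_bot] at h0
    simpa [h0] using (mem_inf.mp hd).1

/-- Fixed points of a quotient by an invariant normal subgroup come from fixed points. -/
theorem map_inf_centralizer_le {N : Subgroup G} [N.Normal] {S U : Subgroup G}
    (_hSU : S ≤ normalizer (U : Set G)) (hN : N ≤ U) (hcop : (Nat.card S).Coprime (Nat.card N))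
    (hsolv : Group.IsSolvable S) :
    U.map (QuotientGroup.mk' N) ⊓ centralizer (S.map (QuotientGroup.mk' N) : Set (G ⧸ N)) ≤
      (U ⊓ centralizer (S : Set G)).map (QuotientGroup.mk' N) := by
  rintro _ ⟨⟨u, hu, rfl⟩, hc⟩
  obtain ⟨n, hn, hn'⟩ := Coprime.exists_fixed_in_coset S N (by simp [Subgroup.normalizer_eq_top]) hcop
    (Or.inl hsolv) u (fun a ha => by
      rw [← QuotientGroup.eq_one_iff (N := N)]
      have h := mem_centralizer_iff.mp hc _ (mem_map_of_mem (QuotientGroup.mk' N) ha)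
      simp only [QuotientGroup.mk'_apply] at h
      simp only [QuotientGroup.mk_mul, QuotientGroup.mk_inv]
      rw [h]
      simp)
  exact ⟨u * n, mem_inf.mpr ⟨mul_mem hu (hN hn), hn'⟩, by
    simp [QuotientGroup.mk'_apply, (QuotientGroup.eq_one_iff n).mpr hn]⟩

theorem commutator_inf_centralizer_le_of_normal {E : Subgroup G} [E.Normal] {V X D : Subgroup G}
    (hV : FourLike V) (hVX : V ≤ normalizer (X : Set G))
    (hcop : (Nat.card V).Coprime (Nat.card X)) (hsolv : Group.IsSolvable X) (hXV : ⁅X, V⁆ = X)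
    (hD : D ≤ X ⊓ centralizer (V : Set G))
    (hDn : X ⊓ centralizer (V : Set G) ≤ normalizer (D : Set G))
    (hgen : ∀ v ∈ V, v ≠ 1 → ⁅X ⊓ centralizer {v}, V⁆ ⊓ centralizer (V : Set G) ≤ D)
    (hEX : E ≤ X) (hED : E ⊓ centralizer (V : Set G) ≤ D) (hne : E ≠ X) :
    ∃ E' : Subgroup G, E < E' ∧ E' ≤ X ∧ X ≤ normalizer (E' : Set G) ∧
      V ≤ normalizer (E' : Set G) ∧ E' ⊓ centralizer (V : Set G) ≤ D := by
  haveI := hV.1
  haveI := hsolv
  set q := QuotientGroup.mk' E with hq
  have hVs := solvable_four hV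
  have hVE : (Nat.card V).Coprime (Nat.card E) := hcop.coprime_dvd_right (card_dvd_of_le hEX)
  have hinj : ∀ x ∈ V, ∀ y ∈ V, q x = q y → x = y := fun x hx y hy h => by
    rw [hq, QuotientGroup.mk'_apply, QuotientGroup.mk'_apply, QuotientGroup.eq] at h
    exact inv_mul_eq_one.mp (Coprime.inf_eq_bot_of_coprime' hVE (mul_mem (inv_mem hx) hy) h)
  have hV' : FourLike (V.map q) := by
    refine ⟨⟨⟨?_⟩⟩, fun hc => hV.2.1 ?_, ?_⟩
    · rintro ⟨_, x, hx, rfl⟩ ⟨_, y, hy, rfl⟩
      apply Subtype.ext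
      simp only [coe_mul, ← map_mul]
      exact congrArg q (congrArg Subtype.val (mul_comm' (⟨x, hx⟩ : V) ⟨y, hy⟩))
    · let f : V →* V.map q := (q.comp V.subtype).codRestrict _ fun x => mem_map_of_mem _ x.2
      exact isCyclic_of_injective f fun x y h =>
        Subtype.ext (hinj x x.2 y y.2 (congrArg Subtype.val h))
    · rintro _ ⟨u, hu, rfl⟩ _ ⟨v, hv, rfl⟩ hu1 hv1 huv _ ⟨g, hg, rfl⟩
      rcases hV.2.2 u hu v hv (fun h => hu1 (by simp [h])) (fun h => hv1 (by simp [h]))
        (fun h => huv (by simp [h])) g hg with rfl | rfl | rfl | rfl <;> simp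
  have hXne : X.map q ≠ ⊥ := fun h => hne (le_antisymm hEX fun x hx => by
    have := mem_map_of_mem q hx
    rwa [h, mem_bot, hq, QuotientGroup.mk'_apply, QuotientGroup.eq_one_iff] at this)
  have hVCV : V ≤ normalizer (centralizer (V : Set G) : Set G) :=
    hV.le_centralizer.trans le_normalizer
  obtain ⟨F, hFX, hFne, hXF, hVF, hFD⟩ := exists_normal_inf_le (V := V.map q) (X := X.map q)
    (D := D.map q) hV' ((map_mono hVX).trans (le_normalizer_map q))
    ((hcop.coprime_dvd_left (card_map_dvd V q)).coprime_dvd_right (card_map_dvd X q))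
    (Group.isSolvable_of_surjective
      (f := (q.comp X.subtype).codRestrict (X.map q) fun x => mem_map_of_mem _ x.2)
      (by rintro ⟨_, x, hx, rfl⟩; exact ⟨⟨x, hx⟩, rfl⟩))
    (by rw [← map_commutator, hXV]) hXne
    (by
      rintro _ ⟨d, hd, rfl⟩
      refine mem_inf.mpr ⟨mem_map_of_mem _ (hD hd).1, mem_centralizer_iff.mpr ?_⟩
      rintro _ ⟨v, hv, rfl⟩
      rw [← map_mul, ← map_mul, mem_centralizer_iff.mp (hD hd).2 v hv])
    ((map_inf_centralizer_le hVX hEX hVE hVs).trans ((map_mono hDn).trans (le_normalizer_map q)))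
    (by
      rintro _ ⟨v, hv, rfl⟩ hv1 _ ⟨hx, hxC⟩
      have hz : zpowers v ≤ V := zpowers_le.mpr hv
      have hsub : X.map q ⊓ centralizer ({q v} : Set (G ⧸ E)) ≤
          (X ⊓ centralizer {v}).map q := by
        rw [← SFT45.centralizer_zpowers, ← SFT45.centralizer_zpowers, ← MonoidHom.map_zpowers]
        exact map_inf_centralizer_le (hz.trans hVX) hEX (hVE.coprime_dvd_left (card_dvd_of_le hz))
          (Coprime.solvable_of_le hz hVs)
      have hx' := commutator_mono hsub le_rfl hx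
      rw [← map_commutator] at hx'
      obtain ⟨k, hk, rfl⟩ := hx'
      have hvC : V ≤ normalizer (centralizer ({v} : Set G) : Set G) :=
        le_trans (fun x hx => mem_centralizer_singleton_iff.mpr
          (mem_centralizer_iff.mp (hV.le_centralizer hx) v hv).symm) le_normalizer
      have hVC : V ≤ normalizer ((X ⊓ centralizer {v} : Subgroup G) : Set G) :=
        Coprime.le_normalizer_inf hVX hvC
      obtain ⟨n, hn, hn'⟩ := Coprime.exists_fixed_in_coset V (E ⊓ ⁅X ⊓ centralizer {v}, V⁆)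
        (Coprime.le_normalizer_inf (by simp [Subgroup.normalizer_eq_top])
          (Coprime.le_normalizer_commutator_right V _))
        (hVE.coprime_dvd_right (card_dvd_of_le inf_le_left)) (Or.inl hVs) k (fun a ha => by
          refine mem_inf.mpr ⟨?_, mul_mem (inv_mem hk) (conj_mem_of_mem_normalizer
            (Coprime.le_normalizer_commutator_right V _ ha) hk)⟩
          rw [← QuotientGroup.eq_one_iff (N := E)]
          have h := mem_centralizer_iff.mp hxC _ (mem_map_of_mem q ha)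
          simp only [hq, QuotientGroup.mk'_apply] at h
          simp only [QuotientGroup.mk_mul, QuotientGroup.mk_inv]
          rw [h]
          simp)
      refine ⟨k * n, hgen v hv (fun h => hv1 (by simp [h]))
        (mem_inf.mpr ⟨mul_mem hk (mem_inf.mp hn).2, hn'⟩), ?_⟩
      simp [hq, QuotientGroup.mk'_apply, (QuotientGroup.eq_one_iff n).mpr (mem_inf.mp hn).1])
  have hqs : Function.Surjective q := QuotientGroup.mk'_surjective E
  have hmem : ∀ {H : Subgroup G}, H.map q ≤ normalizer (F : Set (G ⧸ E)) →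
      H ≤ normalizer (F.comap q : Set G) := fun {H} h x hx =>
    le_normalizer_comap q (h (mem_map_of_mem q hx))
  have hlt : E < F.comap q := by
    have hle : E ≤ F.comap q := fun x hx => by
      rw [mem_comap, hq, QuotientGroup.mk'_apply, (QuotientGroup.eq_one_iff x).mpr hx]
      exact one_mem _
    refine lt_of_le_of_ne hle fun h => hFne (eq_bot_iff.mpr fun x hx => ?_)
    obtain ⟨g, rfl⟩ := hqs x
    have : g ∈ E := h ▸ (show g ∈ F.comap q from hx)
    rw [mem_bot, hq, QuotientGroup.mk'_apply, QuotientGroup.eq_one_iff]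
    exact this
  have hle : F.comap q ≤ X := fun x hx => by
    obtain ⟨y, hy, hyx⟩ := hFX hx
    have : y⁻¹ * x ∈ E := QuotientGroup.eq.mp hyx
    simpa using mul_mem hy (hEX this)
  refine ⟨F.comap q, hlt, hle, hmem hXF, hmem hVF, fun c hc => ?_⟩
  obtain ⟨hcF, hcC⟩ := mem_inf.mp hc
  have hqc : q c ∈ F ⊓ centralizer (V.map q : Set (G ⧸ E)) := mem_inf.mpr ⟨hcF,
    mem_centralizer_iff.mpr (by
      rintro _ ⟨v, hv, rfl⟩
      rw [← map_mul, ← map_mul, mem_centralizer_iff.mp hcC v hv])⟩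
  obtain ⟨d, hd, hdc⟩ := hFD hqc
  have h1 : d⁻¹ * c ∈ E ⊓ centralizer (V : Set G) :=
    mem_inf.mpr ⟨QuotientGroup.eq.mp hdc, mul_mem (inv_mem (hD hd).2) hcC⟩
  simpa using mul_mem hd (hED h1)

/-- Fixed points of `[X, V]` lie in `D`. -/
theorem commutator_inf_centralizer_le {V X D : Subgroup G} (hV : FourLike V)
    (hVX : V ≤ normalizer (X : Set G)) (hcop : (Nat.card V).Coprime (Nat.card X))
    (hsolv : Group.IsSolvable X)
    (hD : D ≤ X ⊓ centralizer (V : Set G))
    (hDn : X ⊓ centralizer (V : Set G) ≤ normalizer (D : Set G))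
    (hgen : ∀ v ∈ V, v ≠ 1 → ⁅X ⊓ centralizer {v}, V⁆ ⊓ centralizer (V : Set G) ≤ D) :
    ⁅X, V⁆ ⊓ centralizer (V : Set G) ≤ D := by
  have hVs := solvable_four hV
  set X' := ⁅X, V⁆ with hX'
  have hX'X : X' ≤ X := Coprime.commutator_le_of_le_normalizer hVX
  have hVX' : V ≤ normalizer (X' : Set G) := Coprime.le_normalizer_commutator_right V X
  have hXV' : ⁅X', V⁆ = X' := Coprime.commutator_commutator_eq V X hVX hcop (Or.inl hVs)
  set D' := D ⊓ X' with hD'
  have hD'2 : D' ≤ X' ⊓ centralizer (V : Set G) :=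
    le_inf inf_le_right (inf_le_left.trans (hD.trans inf_le_right))
  have hgen' : ∀ v ∈ V, v ≠ 1 →
      ⁅X' ⊓ centralizer {v}, V⁆ ⊓ centralizer (V : Set G) ≤ D' := fun v hv hv1 => by
    have hvC : V ≤ normalizer ((X' ⊓ centralizer {v} : Subgroup G) : Set G) :=
      Coprime.le_normalizer_inf hVX' (le_trans (fun x hx => mem_centralizer_singleton_iff.mpr
        (mem_centralizer_iff.mp (hV.le_centralizer hx) v hv).symm) le_normalizer)
    exact le_inf ((inf_le_inf_right _ (commutator_mono (inf_le_inf_right _ hX'X) le_rfl)).trans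
      (hgen v hv hv1))
      (inf_le_left.trans ((Coprime.commutator_le_of_le_normalizer hvC).trans inf_le_left))
  classical
  let S : Set (Subgroup G) := {E | E ≤ X' ∧ X' ≤ normalizer (E : Set G) ∧
    V ≤ normalizer (E : Set G) ∧ E ⊓ centralizer (V : Set G) ≤ D'}
  have hbot : (⊥ : Subgroup G) ∈ S :=
    ⟨bot_le, Coprime.le_normalizer_of_conj_mem fun a _ x hx => by simp [mem_bot.mp hx], Coprime.le_normalizer_of_conj_mem fun a _ x hx => by simp [mem_bot.mp hx], by simp⟩
  obtain ⟨E, hE⟩ := (Set.toFinite S).exists_maximal ⟨⊥, hbot⟩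
  obtain ⟨hEX, hXE, hVE, hED⟩ := hE.prop
  rcases eq_or_ne E X' with hEX' | hne
  · exact hEX' ▸ hED.trans inf_le_left
  exfalso
  -- pass to the normaliser of `E`
  set N := normalizer (E : Set G) with hN
  have hEN : E ≤ N := le_normalizer
  haveI : (E.subgroupOf N).Normal := normal_subgroupOf_iff_le_normalizer hEN |>.mpr le_rfl
  have hDN : D' ≤ N := inf_le_right.trans hXE
  have hsub : ∀ {A B : Subgroup G}, A ≤ N → B ≤ N →
      (⁅A.subgroupOf N, B.subgroupOf N⁆).map N.subtype = ⁅A, B⁆ := fun hA hB => by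
    rw [map_commutator, map_subgroupOf_eq_of_le hA, map_subgroupOf_eq_of_le hB]
  have hcent : ∀ x : N, x ∈ centralizer ((V.subgroupOf N : Subgroup N) : Set N) ↔
      (x : G) ∈ centralizer (V : Set G) := fun x => by
    simp only [mem_centralizer_iff, SetLike.mem_coe, mem_subgroupOf, Subtype.ext_iff, coe_mul]
    exact ⟨fun h v hv => h ⟨v, hVE hv⟩ hv, fun h v hv => h v hv⟩
  have hnorm : ∀ {A B : Subgroup G}, A ≤ normalizer (B : Set G) →
      A.subgroupOf N ≤ normalizer ((B.subgroupOf N : Subgroup N) : Set N) := fun h =>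
    Coprime.le_normalizer_of_conj_mem fun a ha x hx => by
      simpa [mem_subgroupOf] using conj_mem_of_mem_normalizer (h ha) hx
  have hcard : ∀ {A : Subgroup G}, A ≤ N → Nat.card (A.subgroupOf N) = Nat.card A := fun h =>
    Nat.card_congr (subgroupOfEquivOfLe h).toEquiv
  obtain ⟨E', hlt, hle, hX'E', hVE', hE'D⟩ := commutator_inf_centralizer_le_of_normal
    (E := E.subgroupOf N) (V := V.subgroupOf N) (X := X'.subgroupOf N) (D := D'.subgroupOf N)
    (by
      haveI := hV.1
      refine ⟨⟨⟨fun a b => ?_⟩⟩, fun hc => hV.2.1 ?_, fun u hu v hv hu1 hv1 huv g hg => ?_⟩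
      · apply Subtype.ext; apply Subtype.ext
        exact (mem_centralizer_iff.mp (hV.le_centralizer b.2) _ a.2)
      · exact isCyclic_of_surjective _ (subgroupOfEquivOfLe hVE).surjective
      · rcases hV.2.2 u hu v hv (fun h => hu1 (Subtype.ext h)) (fun h => hv1 (Subtype.ext h))
          (fun h => huv (Subtype.ext h)) g hg with h | h | h | h
        · exact Or.inl (Subtype.ext h)
        · exact Or.inr (Or.inl (Subtype.ext h))
        · exact Or.inr (Or.inr (Or.inl (Subtype.ext h)))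
        · exact Or.inr (Or.inr (Or.inr (Subtype.ext h))))
    (hnorm hVX') (by rw [hcard hVE, hcard hXE]; exact hcop.coprime_dvd_right (card_dvd_of_le hX'X))
    (haveI := Coprime.solvable_of_le hX'X hsolv
     Group.isSolvable_of_isSolvable_injective
      (f := ((subgroupOfEquivOfLe hXE).toMonoidHom)) (subgroupOfEquivOfLe hXE).injective)
    (map_injective N.subtype_injective (by
      rw [hsub hXE hVE, map_subgroupOf_eq_of_le hXE, hXV']))
    (fun x hx => ⟨(hD'2 hx).1, (hcent x).mpr (hD'2 hx).2⟩)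
    (fun x hx => by
      refine hnorm (A := X' ⊓ centralizer (V : Set G)) (Coprime.le_normalizer_inf
        ((inf_le_inf_right _ hX'X).trans hDn) (inf_le_left.trans le_normalizer)) ?_
      exact mem_inf.mpr ⟨(mem_inf.mp hx).1, (hcent x).mp (mem_inf.mp hx).2⟩)
    (fun v hv hv1 x hx => hgen' v hv (fun h => hv1 (Subtype.ext h)) (mem_inf.mpr ⟨by
      refine commutator_mono ?_ (map_subgroupOf_eq_of_le hVE).le
        ((map_commutator _ _ N.subtype).le (mem_map_of_mem N.subtype (mem_inf.mp hx).1))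
      rintro _ ⟨y, hy, rfl⟩
      refine mem_inf.mpr ⟨(mem_inf.mp hy).1, mem_centralizer_singleton_iff.mpr ?_⟩
      exact congrArg Subtype.val (mem_centralizer_singleton_iff.mp (mem_inf.mp hy).2),
      (hcent x).mp (mem_inf.mp hx).2⟩))
    (fun x hx => hEX hx) (fun x hx => hED (mem_inf.mpr ⟨(mem_inf.mp hx).1,
      (hcent x).mp (mem_inf.mp hx).2⟩))
    (fun h => hne (by
      rw [← map_subgroupOf_eq_of_le hEN, h, map_subgroupOf_eq_of_le hXE]))
  set F := E'.map N.subtype with hF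
  have hFS : F ∈ S := by
    refine ⟨(map_mono hle).trans (map_subgroupOf_eq_of_le hXE).le, ?_, ?_, ?_⟩
    · exact le_trans (map_subgroupOf_eq_of_le hXE).ge ((map_mono hX'E').trans (le_normalizer_map _))
    · exact le_trans (map_subgroupOf_eq_of_le hVE).ge ((map_mono hVE').trans (le_normalizer_map _))
    · rintro _ ⟨⟨y, hy, rfl⟩, hyC⟩
      exact hE'D (mem_inf.mpr ⟨hy, (hcent y).mpr hyC⟩)
  have hEF : E ≤ F := le_trans (map_subgroupOf_eq_of_le hEN).ge (map_mono hlt.le)
  have hFE : F ≤ E := hE.le_of_ge hFS hEF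
  exact hlt.ne (map_injective N.subtype_injective (by
    rw [map_subgroupOf_eq_of_le hEN]; exact le_antisymm hEF hFE))

end Cfsg.Agent.ProdFus42
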