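import Cfsg.Agent.ProdFus42.Normal
import Cfsg.Agent.S1250

/-!
# The odd cores of centralisers of involutions in a product fusion configuration
-/

set_option autoImplicit false
set_option linter.style.haveILetI false
set_option linter.unusedSectionVars false

namespace Cfsg.Agent.ProdFus42

open Subgroup Coprime
open scoped Pointwise commutatorElement

variable {G : Type*} [Group G] [Finite G] (D : Hyp G)

/-- The centraliser of `a` modulo its odd core. -/
abbrev CentQuot (a : G) : Type _ :=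
  ↥(centralizer ({a} : Set G)) ⧸ pPrimeCore 2 ↥(centralizer ({a} : Set G))

/-- The projection onto `CentQuot a`. -/
abbrev cmk (a : G) : ↥(centralizer ({a} : Set G)) →* CentQuot a :=
  QuotientGroup.mk' _

theorem mem_oc_iff {a : G} {w : ↥(centralizer ({a} : Set G))} :
    (w : G) ∈ oc a ↔ cmk a w = 1 := by
  rw [QuotientGroup.mk'_apply, QuotientGroup.eq_one_iff, oc]
  exact ⟨fun ⟨x, hx, hxw⟩ => Subtype.ext hxw ▸ hx, fun h => ⟨w, h, rfl⟩⟩

theorem odd_orderOf_cmk {a : G} {w : ↥(centralizer ({a} : Set G))} (h : Odd (orderOf (w : G))) :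
    Odd (orderOf (cmk a w)) := by
  refine Odd.of_dvd_nat ?_ (orderOf_map_dvd (cmk a) w)
  rwa [← Subgroup.orderOf_coe]

/-- An element of odd order centralising a normal subgroup and its centraliser is trivial. -/
theorem eq_one_of_centralizes {L : Type*} [Group L] [Finite L] (hO : pPrimeCore 2 L = ⊥)
    {N : Subgroup L} [N.Normal] {w : L} (hw : Odd (orderOf w))
    (h1 : w ∈ centralizer (N : Set L))
    (h2 : w ∈ centralizer ((centralizer (N : Set L) : Subgroup L) : Set L)) : w = 1 := by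
  set Cn := centralizer (N : Set L) with hCn
  haveI : Cn.Normal := Subgroup.normal_centralizer
  have hW : (zpowers (⟨w, h1⟩ : Cn)).Normal := ⟨fun x hx g => by
    obtain ⟨k, rfl⟩ := mem_zpowers_iff.mp hx
    have hc : Commute g (⟨w, h1⟩ : Cn) := Subtype.ext (mem_centralizer_iff.mp h2 g g.2)
    rw [(hc.zpow_right k).eq, mul_inv_cancel_right]
    exact zpow_mem (mem_zpowers _) k⟩
  have hle : zpowers (⟨w, h1⟩ : Cn) ≤ pPrimeCore 2 Cn := Thompson.le_pPrimeCore hW (by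
    rw [Nat.card_zpowers, Subgroup.orderOf_mk]
    exact Nat.coprime_two_right.mpr hw)
  have h3 := mem_map_of_mem Cn.subtype (hle (mem_zpowers _))
  have h4 : w ∈ pPrimeCore 2 L := Thompson.map_pPrimeCore_normal_le Cn h3
  rwa [hO, mem_bot] at h4

/-- The structure of the centraliser of `b₁ b₂`. -/
theorem local_data {b₁ b₂ : G} (h₁ : b₁ ∈ D.X₁) (h₂ : b₂ = 1 ∨ b₂ ∈ D.X₂)
    (hc : b₁ * b₂ = b₂ * b₁) :
    ∃ N C : Subgroup (CentQuot (b₁ * b₂)), N.Normal ∧ C.Normal ∧ IsPGroup 2 N ∧ DihLike N C ∧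
      (∀ x : ↥(centralizer ({b₁ * b₂} : Set G)), (x : G) ∈ D.X₁ → cmk (b₁ * b₂) x ∈ N) ∧
      (∀ y : ↥(centralizer ({b₁ * b₂} : Set G)), (y : G) ∈ D.X₂ →
        cmk (b₁ * b₂) y ∈ centralizer (N : Set (CentQuot (b₁ * b₂)))) ∧
      N ≤ Subgroup.closure (cmk (b₁ * b₂) ''
        {x : ↥(centralizer ({b₁ * b₂} : Set G)) | (x : G) ∈ D.X₁}) := by
  haveI := Fact.mk Nat.prime_two
  obtain ⟨b, hb⟩ : ∃ b, b = b₁ * b₂ := ⟨_, rfl⟩
  rw [← hb]
  set H := centralizer ({b} : Set G) with hH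
  have hb₁2 := Involution.mul_self_of_orderOf h₁.1
  have hb₂2 : b₂ * b₂ = 1 := by
    rcases h₂ with rfl | h2
    · simp
    · exact Involution.mul_self_of_orderOf h2.1
  have hb₁H : b₁ ∈ H := mem_centralizer_singleton_iff.mpr (by
    rw [hb, mul_assoc b₁ b₂ b₁, hc])
  have hb₂H : b₂ ∈ H := mem_centralizer_singleton_iff.mpr (by
    rw [hb, ← mul_assoc b₂ b₁ b₂, hc])
  set R := Subgroup.closure ({b₁, b₂} : Set G) with hR
  have hR2 : IsPGroup 2 R := Involution.isPGroup_closure_pair_of_commute hb₁2 hb₂2 hc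
  have hRH : R ≤ H := (closure_le _).mpr (by
    rintro x (rfl | rfl)
    · exact hb₁H
    · exact hb₂H)
  obtain ⟨T, hT⟩ := (hR2.of_equiv (subgroupOfEquivOfLe hRH).symm).exists_le_sylow
  obtain ⟨g, hg⟩ := D.exists_conj (T.isPGroup'.map H.subtype)
  set E := D.conj g with hE
  have hX₁ : E.X₁ = D.X₁ := D.X₁_conj g
  have hX₂ : E.X₂ = D.X₂ := D.X₂_conj g
  have hTP : ∀ x : H, x ∈ T → (x : G) ∈ (E.P : Subgroup G) := fun x hx => hg (mem_map_of_mem _ hx)
  have hb₁P : b₁ ∈ (E.P : Subgroup G) :=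
    hTP ⟨b₁, hb₁H⟩ (hT (show b₁ ∈ R from subset_closure (by simp)))
  have hb₂P : b₂ ∈ (E.P : Subgroup G) :=
    hTP ⟨b₂, hb₂H⟩ (hT (show b₂ ∈ R from subset_closure (by simp)))
  have hb₁S : b₁ ∈ E.S₁ := E.mem_S₁ (by rw [hX₁]; exact h₁) hb₁P
  have hb₂S : b₂ ∈ E.S₂ := by
    rcases h₂ with rfl | h2
    · exact one_mem _
    · exact E.mem_S₂ (by rw [hX₂]; exact h2) hb₂P
  have hbP : b ∈ (E.P : Subgroup G) := hb ▸ mul_mem hb₁P hb₂P
  -- `T = C_P(b)`
  have hTeq : ∀ x : H, (x : G) ∈ (E.P : Subgroup G) → x ∈ T := by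
    intro x hx
    have hle : ((E.P : Subgroup G) ⊓ H).subgroupOf H = (T : Subgroup H) := T.is_maximal'
      ((E.P.isPGroup'.to_le inf_le_left).of_equiv (subgroupOfEquivOfLe inf_le_right).symm)
      fun y hy => mem_inf.mpr ⟨hTP y hy, y.2⟩
    have h3 : x ∈ ((E.P : Subgroup G) ⊓ H).subgroupOf H := mem_inf.mpr ⟨hx, x.2⟩
    rw [hle] at h3
    exact h3
  have hconjT : ∀ x : H, orderOf (x : G) = 2 → ∃ k : H, k * x * k⁻¹ ∈ T := by
    intro x hx
    have h2 : IsPGroup 2 (zpowers x) := IsPGroup.of_card (n := 1) (by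
      rw [Nat.card_zpowers, ← Subgroup.orderOf_coe, hx, pow_one])
    obtain ⟨Q, hQ⟩ := h2.exists_le_sylow
    obtain ⟨k, hk⟩ := MulAction.exists_smul_eq H Q T
    exact ⟨k, hk ▸ Involution.conj_mem_sylow_smul k (hQ (mem_zpowers x))⟩
  obtain ⟨C', hd, hbC'⟩ := E.dih₁.centralizer_invol hb₁S h₁.1
  set S := E.S₁ ⊓ centralizer ({b₁} : Set G) with hS
  have hSH : S ≤ H := fun x hx => by
    obtain ⟨hxS, hxb⟩ := mem_inf.mp hx
    refine mem_centralizer_singleton_iff.mpr ?_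
    rw [hb, ← mul_assoc, mem_centralizer_singleton_iff.mp hxb, mul_assoc,
      E.comm x hxS b₂ hb₂S, ← mul_assoc]
  have hHS : ∀ x ∈ E.S₁, x ∈ H → x ∈ S := fun x hx hxH => by
    refine mem_inf.mpr ⟨hx, mem_centralizer_singleton_iff.mpr ?_⟩
    have h := mem_centralizer_singleton_iff.mp hxH
    rw [hb, ← mul_assoc, mul_assoc b₁ b₂ x, ← E.comm x hx b₂ hb₂S, ← mul_assoc] at h
    exact mul_right_cancel h
  have hsc : IsStronglyClosed (S.subgroupOf H) (T : Subgroup H) := by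
    refine ⟨fun x hx => hTeq x (E.le₁ (mem_inf.mp hx).1), fun x hx k hk => ?_⟩
    exact hHS _ (E.sc₁.2 _ (mem_inf.mp hx).1 k (hTP _ hk)) (k * x * k⁻¹).2
  have hinj : ∀ x ∈ S.subgroupOf H, cmk b x = 1 → x = 1 := fun x hx h => by
    refine eq_one_of_odd_of_mem T.isPGroup' ?_ (hsc.1 hx)
    rw [← Subgroup.orderOf_coe]
    exact odd_orderOf_oc (mem_oc_iff.mpr h)
  have hO : pPrimeCore 2 (CentQuot b) = ⊥ := Thompson.pPrimeCore_quotient_pPrimeCore
  set u : H := ⟨b₁, hb₁H⟩ with hu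
  have huo : orderOf u = 2 := by rw [hu, Subgroup.orderOf_mk, h₁.1]
  -- the first component is isolated
  have hiso : IsIsolatedInvolution u := by
    refine ⟨huo, fun k hk => ?_⟩
    have hko : orderOf (k * u * k⁻¹) = 2 := by rw [Involution.orderOf_conj, huo]
    obtain ⟨Q, hQ⟩ := (Involution.isPGroup_closure_pair_of_commute
      (Involution.mul_self_of_orderOf huo) (Involution.mul_self_of_orderOf hko) hk).exists_le_sylow
    obtain ⟨l, hl⟩ := MulAction.exists_smul_eq H Q T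
    have hcomp : ∀ m : H, m * u * m⁻¹ ∈ T → (m : G) * b₁ * (m : G)⁻¹ ∈ E.S₁ ∧
        (m : G) * b₂ * (m : G)⁻¹ ∈ E.S₂ ∧
        (m : G) * b₁ * (m : G)⁻¹ * ((m : G) * b₂ * (m : G)⁻¹) = b := by
      intro m hm
      have hmb : (m : G) * b * (m : G)⁻¹ = b := by
        rw [mem_centralizer_singleton_iff.mp m.2, mul_inv_cancel_right]
      have hprod : (m : G) * b₁ * (m : G)⁻¹ * ((m : G) * b₂ * (m : G)⁻¹) = b := by
        rw [show (m : G) * b₁ * (m : G)⁻¹ * ((m : G) * b₂ * (m : G)⁻¹) = m * (b₁ * b₂) * (m : G)⁻¹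
          by group, ← hb, hmb]
      have hP1 : (m : G) * b₁ * (m : G)⁻¹ ∈ (E.P : Subgroup G) := hTP _ hm
      refine ⟨E.mem_S₁ (by rw [hX₁]; exact invClass_conj _ h₁) hP1, ?_, hprod⟩
      rcases h₂ with rfl | h2
      · simp
      · refine E.mem_S₂ (by rw [hX₂]; exact invClass_conj _ h2) ?_
        rw [eq_inv_mul_of_mul_eq hprod]
        exact mul_mem (inv_mem hP1) hbP
    obtain ⟨a1, a2, a3⟩ := hcomp l (hl ▸ Involution.conj_mem_sylow_smul l
      (hQ (subset_closure (by simp))))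
    obtain ⟨c1, c2, c3⟩ := hcomp (l * k) (by
      rw [show l * k * u * (l * k)⁻¹ = l * (k * u * k⁻¹) * l⁻¹ by group]
      exact hl ▸ Involution.conj_mem_sylow_smul l (hQ (subset_closure (by simp))))
    have h := (E.eq_of_mul_eq a1 c1 a2 c2 (a3.trans c3.symm)).1
    apply Subtype.ext
    show (k : G) * b₁ * (k : G)⁻¹ = b₁
    push_cast at h
    rw [show (l : G) * k * b₁ * ((l : G) * k)⁻¹ = l * ((k : G) * b₁ * (k : G)⁻¹) * (l : G)⁻¹ by
      group] at h
    exact ((mul_right_inj _).mp ((mul_left_inj _).mp h)).symm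
  have hcent : cmk b u ∈ center (CentQuot b) := by
    obtain ⟨M, hM, hodd, hcomm⟩ := ZStar.zStar huo (ZStar.oddComm_of_isolated hiso)
    have hle : M ≤ pPrimeCore 2 H := Thompson.le_pPrimeCore hM (Nat.coprime_two_right.mpr hodd)
    refine mem_center_iff.mpr fun x => ?_
    obtain ⟨k, rfl⟩ := QuotientGroup.mk'_surjective _ x
    have h := (QuotientGroup.eq_one_iff _).mpr (hle (hcomm k))
    simp only [QuotientGroup.mk_mul, QuotientGroup.mk_inv, mul_inv_eq_iff_eq_mul, one_mul] at h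
    simp only [QuotientGroup.mk'_apply]
    exact h.symm
  haveI : Fact (Nat.Prime 2) := ⟨Nat.prime_two⟩
  set T' : Sylow 2 (CentQuot b) := T.mapSurjective (QuotientGroup.mk'_surjective _) with hT'
  have hsc' : IsStronglyClosed ((S.subgroupOf H).map (cmk b)) (T' : Subgroup (CentQuot b)) :=
    S1250.result T _ hsc _
  have hd' := (hd.subgroupOf hSH).image (cmk b) hinj
  obtain ⟨hN, hC⟩ := normal_of_stronglyClosed hO T' hd' hsc' (b := cmk b u)
    (mem_map_of_mem _ (show u ∈ C'.subgroupOf H from hbC'))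
    (Involution.orderOf_eq_two_iff'.mpr ⟨by
      rw [← map_mul, Involution.mul_self_of_orderOf huo, map_one],
      fun h => Involution.ne_one_of_orderOf huo
        (hinj u (mem_inf.mpr ⟨hb₁S, mem_centralizer_singleton_iff.mpr rfl⟩) h)⟩) hcent
  refine ⟨_, _, hN, hC, T'.isPGroup'.to_le hsc'.1, hd', fun x hx => ?_, fun y hy => ?_, ?_⟩
  · obtain ⟨k, hk⟩ := hconjT x hx.1
    have h1 : k * x * k⁻¹ ∈ S.subgroupOf H := hHS _
      (E.mem_S₁ (by rw [hX₁]; exact invClass_conj (k : G) hx) (hTP _ hk)) (k * x * k⁻¹).2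
    have h2 := hN.conj_mem _ (mem_map_of_mem (cmk b) h1) (cmk b k⁻¹)
    simpa [mul_assoc] using h2
  · obtain ⟨k, hk⟩ := hconjT y hy.1
    have h1 : ((k * y * k⁻¹ : H) : G) ∈ E.S₂ :=
      E.mem_S₂ (by rw [hX₂]; exact invClass_conj (k : G) hy) (hTP _ hk)
    have h2 : cmk b (k * y * k⁻¹) ∈
        centralizer (((S.subgroupOf H).map (cmk b) : Subgroup (CentQuot b)) : Set (CentQuot b)) := by
      refine mem_centralizer_iff.mpr ?_
      rintro _ ⟨s, hs, rfl⟩
      rw [← map_mul, ← map_mul]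
      exact congrArg _ (Subtype.ext (E.comm s (mem_inf.mp hs).1 _ h1))
    haveI := hN
    have h3 := (Subgroup.normal_centralizer (H := (S.subgroupOf H).map (cmk b))).conj_mem _ h2
      (cmk b k⁻¹)
    simpa [mul_assoc] using h3
  · rintro _ ⟨s, hs, rfl⟩
    set Z := Subgroup.closure (cmk b '' {x : H | (x : G) ∈ D.X₁})
    have hgen : ∀ x : H, (x : G) ∈ S → (x : G) ∉ C' → cmk b x ∈ Z := fun x hxS hxC =>
      subset_closure ⟨x, by
        show (x : G) ∈ D.X₁
        rw [← hX₁]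
        exact E.mem_X₁ (mem_inf.mp hxS).1 (Involution.orderOf_eq_two_iff'.mpr
          ⟨hd.sq _ hxS hxC, fun h1 => hxC (h1 ▸ one_mem C')⟩), rfl⟩
    by_cases hsC : (s : G) ∈ C'
    · obtain ⟨x, hxS, hxC⟩ := hd.out
      let x' : H := ⟨x, hSH hxS⟩
      rw [show s = x'⁻¹ * (x' * s) by group, map_mul, map_inv]
      refine mul_mem (inv_mem (hgen x' hxS hxC)) (hgen _ (mul_mem hxS hs) fun h => hxC ?_)
      simpa [x'] using mul_mem h (inv_mem hsC)
    · exact hgen s hs hsC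

/-- The structure of the centraliser of a single involution of the first kind. -/
theorem local_data_one {b : G} (h : b ∈ D.X₁) :
    ∃ N C : Subgroup (CentQuot b), N.Normal ∧ C.Normal ∧ IsPGroup 2 N ∧ DihLike N C ∧
      (∀ x : ↥(centralizer ({b} : Set G)), (x : G) ∈ D.X₁ → cmk b x ∈ N) ∧
      (∀ y : ↥(centralizer ({b} : Set G)), (y : G) ∈ D.X₂ →
        cmk b y ∈ centralizer (N : Set (CentQuot b))) ∧
      N ≤ Subgroup.closure (cmk b '' {x : ↥(centralizer ({b} : Set G)) | (x : G) ∈ D.X₁}) := by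
  have h' := local_data D h (b₂ := 1) (Or.inl rfl) (by simp)
  rwa [mul_one] at h'

/-- Elements of odd order inverted by an involution of the first kind. -/
theorem mem_oc_of_inverted {b₁ b₂ : G} (h₁ : b₁ ∈ D.X₁) (h₂ : b₂ = 1 ∨ b₂ ∈ D.X₂)
    (hc : b₁ * b₂ = b₂ * b₁) {x w : G} (hx : x ∈ D.X₁) (hxb : x * (b₁ * b₂) = b₁ * b₂ * x)
    (hwb : w * (b₁ * b₂) = b₁ * b₂ * w) (hw : Odd (orderOf w)) (hinv : x * w * x⁻¹ = w⁻¹) :
    w ∈ oc (b₁ * b₂) := by
  obtain ⟨N, C, hN, hC, hN2, hd, hX, -, -⟩ := local_data D h₁ h₂ hc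
  let x' : ↥(centralizer ({b₁ * b₂} : Set G)) := ⟨x, mem_centralizer_singleton_iff.mpr hxb⟩
  let w' : ↥(centralizer ({b₁ * b₂} : Set G)) := ⟨w, mem_centralizer_singleton_iff.mpr hwb⟩
  refine (mem_oc_iff (w := w')).mpr ?_
  have hxw : x' * w' * x'⁻¹ = w'⁻¹ := Subtype.ext hinv
  set ψ := cmk (b₁ * b₂) with hψ
  have hN' := hX x' hx
  have h1 : ψ w' * ψ x' * (ψ w')⁻¹ * (ψ x')⁻¹ ∈ N :=
    mul_mem (hN.conj_mem _ hN' (ψ w')) (inv_mem hN')
  have h2 : ψ w' * ψ x' * (ψ w')⁻¹ * (ψ x')⁻¹ = ψ w' * ψ w' := by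
    rw [show ψ w' * ψ x' * (ψ w')⁻¹ * (ψ x')⁻¹ = ψ w' * (ψ x' * ψ w' * (ψ x')⁻¹)⁻¹ by group,
      ← map_inv ψ x', ← map_mul, ← map_mul, hxw, map_inv, inv_inv]
  have ho : Odd (orderOf (ψ w')) := odd_orderOf_cmk hw
  have h3 := eq_one_of_odd_of_mem hN2 (u := ψ w' * ψ w') (by
    rw [← pow_two]; exact ho.of_dvd_nat (orderOf_pow_dvd 2)) (h2 ▸ h1)
  rw [← pow_two, ← orderOf_dvd_iff_pow_eq_one] at h3
  exact orderOf_eq_one_iff.mp
    (Nat.eq_one_of_dvd_coprimes (Nat.coprime_two_right.mpr ho) dvd_rfl h3)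

/-- `O(C(c)) ∩ C(a)` centralises, modulo `O(C(a))`, every normal subgroup centralised by `c`. -/
theorem centralizes_normal {a c w : G} (hc : orderOf c = 2) (hca : c * a = a * c)
    (hw : w ∈ oc c) (hwa : w * a = a * w) {N : Subgroup (CentQuot a)} [N.Normal]
    (hN : cmk a ⟨c, mem_centralizer_singleton_iff.mpr hca⟩ ∈
      centralizer (N : Set (CentQuot a))) :
    cmk a ⟨w, mem_centralizer_singleton_iff.mpr hwa⟩ ∈ centralizer (N : Set (CentQuot a)) := by
  set H := centralizer ({a} : Set G) with hH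
  set c' : H := ⟨c, mem_centralizer_singleton_iff.mpr hca⟩ with hc'
  set w' : H := ⟨w, mem_centralizer_singleton_iff.mpr hwa⟩ with hw'
  set ψ := cmk a with hψ
  have hO : pPrimeCore 2 (CentQuot a) = ⊥ := Thompson.pPrimeCore_quotient_pPrimeCore
  set R : Subgroup (CentQuot a) := ((oc c).subgroupOf H).map ψ with hR
  have hRodd : Odd (Nat.card R) := (odd_card_oc c).of_dvd_nat
    ((card_map_dvd _ ψ).trans (card_comap_dvd_of_injective _ _ H.subtype_injective))
  have hlift : ∀ n ∈ N, ∃ k : H, (k : G) * c = c * k ∧ ψ k = n := by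
    intro n hn
    obtain ⟨k, rfl⟩ := QuotientGroup.mk'_surjective _ n
    have hcop : (Nat.card (zpowers c')).Coprime (Nat.card (pPrimeCore 2 H)) := by
      rw [Nat.card_zpowers, hc', Subgroup.orderOf_mk, hc]
      exact Thompson.card_pPrimeCore_coprime.symm
    obtain ⟨o, ho, hko⟩ := exists_fixed_in_coset (zpowers c') (pPrimeCore 2 H)
      (by simp [Subgroup.normalizer_eq_top]) hcop
      (Or.inl (Group.isSolvable_of_comm fun x y => mul_comm' x y)) k (fun z hz => by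
        rw [← QuotientGroup.eq_one_iff (N := pPrimeCore 2 H)]
        obtain ⟨i, rfl⟩ := mem_zpowers_iff.mp hz
        have h1 : Commute (ψ k) (ψ c') := mem_centralizer_iff.mp hN _ hn
        have h2 := (h1.zpow_right i).eq
        rw [← map_zpow] at h2
        simp only [hψ, QuotientGroup.mk'_apply] at h2
        simp only [QuotientGroup.mk_mul, QuotientGroup.mk_inv]
        rw [← h2, mul_inv_cancel_right, inv_mul_cancel])
    refine ⟨k * o, ?_, ?_⟩
    · exact (congrArg Subtype.val (mem_centralizer_iff.mp hko c' (mem_zpowers c'))).symm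
    · simp [hψ, QuotientGroup.mk'_apply]
      exact ho
  have hNR : N ≤ normalizer (R : Set (CentQuot a)) := Coprime.le_normalizer_of_conj_mem fun n hn => by
    rintro _ ⟨r, hr, rfl⟩
    obtain ⟨k, hk, rfl⟩ := hlift n hn
    refine ⟨k * r * k⁻¹, ?_, by simp⟩
    show ((k * r * k⁻¹ : H) : G) ∈ oc c
    exact conj_mem_of_mem_normalizer (map_oc_normalizer hk) hr
  have hbot : R ⊓ N = ⊥ := by
    have hn : ((R ⊓ N).subgroupOf N).Normal :=
      (normal_subgroupOf_iff_le_normalizer inf_le_right).mpr (le_normalizer_inf hNR le_normalizer)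
    have hle := Thompson.le_pPrimeCore hn (p := 2) (by
      rw [Nat.card_congr (subgroupOfEquivOfLe inf_le_right).toEquiv]
      exact Nat.coprime_two_right.mpr (hRodd.of_dvd_nat (card_dvd_of_le inf_le_left)))
    rw [eq_bot_iff, ← hO]
    intro z hz
    exact Thompson.map_pPrimeCore_normal_le N
      (mem_map_of_mem N.subtype (hle (show (⟨z, (mem_inf.mp hz).2⟩ : N) ∈ (R ⊓ N).subgroupOf N from hz)))
  refine mem_centralizer_iff.mpr fun n hn => ?_
  obtain ⟨k, hk, rfl⟩ := hlift n hn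
  have hwR : w' ∈ (oc c).subgroupOf H := hw
  have h1 : ψ k * ψ w' * (ψ k)⁻¹ * (ψ w')⁻¹ ∈ R ⊓ N := by
    refine mem_inf.mpr ⟨mul_mem (conj_mem_of_mem_normalizer (hNR hn) (mem_map_of_mem ψ hwR))
      (inv_mem (mem_map_of_mem ψ hwR)), ?_⟩
    rw [show ψ k * ψ w' * (ψ k)⁻¹ * (ψ w')⁻¹ = ψ k * (ψ w' * (ψ k)⁻¹ * (ψ w')⁻¹) by group]
    exact mul_mem hn (Subgroup.Normal.conj_mem inferInstance _ (inv_mem hn) _)
  rw [hbot, mem_bot, mul_inv_eq_one, mul_inv_eq_iff_eq_mul] at h1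
  exact h1

/-- The odd cores of the centralisers of two commuting involutions of the first kind. -/
theorem mem_oc_same {e e' w : G} (he : e ∈ D.X₁) (he' : e' ∈ D.X₁) (hne : e ≠ e')
    (hc : e * e' = e' * e) (hw : w ∈ oc e) (hwe' : w * e' = e' * w) : w ∈ oc e' := by
  suffices h : w ∈ oc (e' * 1) by rwa [mul_one] at h
  obtain ⟨N, C, hN, hC, hN2, hd, hX, -, -⟩ := local_data D he' (Or.inl rfl) (by simp : e' * 1 = 1 * e')
  haveI := hN
  set ψ := cmk (e' * 1) with hψ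
  let H := centralizer ({e' * 1} : Set G)
  let a : H := ⟨e, mem_centralizer_singleton_iff.mpr (by simpa using hc)⟩
  let c : H := ⟨e', mem_centralizer_singleton_iff.mpr (by simp)⟩
  let w' : H := ⟨w, mem_centralizer_singleton_iff.mpr (by simpa using hwe')⟩
  refine (mem_oc_iff (w := w')).mpr ?_
  have hO : pPrimeCore 2 (CentQuot (e' * 1)) = ⊥ := Thompson.pPrimeCore_quotient_pPrimeCore
  have hwo : Odd (orderOf (ψ w')) := odd_orderOf_cmk (odd_orderOf_oc hw)
  have ha : ψ a ∈ N := hX a he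
  have hcN : ψ c ∈ N := hX c he'
  haveI : (centralizer (N : Set (CentQuot (e' * 1)))).Normal := Subgroup.normal_centralizer
  have h2 := centralizes_normal he.1 (by simpa using hc) hw (by simpa using hwe' : w * (e' * 1) = _)
    (N := centralizer (N : Set (CentQuot (e' * 1))))
    (mem_centralizer_iff.mpr fun y hy => (mem_centralizer_iff.mp hy _ ha).symm)
  refine eq_one_of_centralizes hO (N := N) hwo ?_ h2
  have hwa : Commute (ψ a) (ψ w') := (Commute.map (Subtype.ext (oc_comm hw) : w' * a = a * w') ψ).symm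
  have hwc : Commute (ψ c) (ψ w') := (Commute.map (Subtype.ext hwe' : w' * c = c * w') ψ).symm
  have hfix : ∀ y : H, orderOf (y : G) = 2 → ψ y ≠ 1 ∧ ψ y * ψ y = 1 := fun y hy => by
    refine ⟨fun h => ?_, ?_⟩
    · have := odd_orderOf_oc (mem_oc_iff.mpr h)
      rw [hy] at this
      exact absurd this (by decide)
    · rw [← map_mul, show y * y = 1 from Subtype.ext (Involution.mul_self_of_orderOf hy), map_one]
  obtain ⟨ha1, ha2⟩ := hfix a he.1
  obtain ⟨hc1, hc2⟩ := hfix c he'.1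
  obtain ⟨hac1, -⟩ := hfix (a * c) (D.mul_mem_X₁ he he' hc hne).1
  haveI := hd.cyclic
  haveI := hC
  have hCcomm : ∀ k ∈ C, ψ w' * k = k * ψ w' := fun k hk =>
    odd_commute_cyclic (hN2.to_le hd.le) hwo (by simp [Subgroup.normalizer_eq_top]) hk
  obtain ⟨y, hyN, hyC, hyw⟩ : ∃ y ∈ N, y ∉ C ∧ Commute y (ψ w') := by
    by_cases h1 : ψ a ∈ C
    · by_cases h2 : ψ c ∈ C
      · exfalso
        have := hd.unique h1 h2 (Involution.orderOf_eq_two_iff'.mpr ⟨ha2, ha1⟩)
          (Involution.orderOf_eq_two_iff'.mpr ⟨hc2, hc1⟩)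
        exact hac1 (by rw [map_mul, this, hc2])
      · exact ⟨_, hcN, h2, hwc⟩
    · exact ⟨_, ha, h1, hwa⟩
  refine mem_centralizer_iff.mpr fun n hn => ?_
  by_cases hnC : n ∈ C
  · exact (hCcomm n hnC).symm
  · have hyn : y * n ∈ C := hd.mul y hyN n hn hyC hnC
    have h3 : Commute (y * n) (ψ w') := (hCcomm _ hyn).symm
    have h4 : Commute n (ψ w') := by
      have := (hyw.inv_left).mul_left h3
      rwa [← mul_assoc, inv_mul_cancel, one_mul] at this
    exact h4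

/-- The odd cores of the centralisers of two involutions of different kinds. -/
theorem mem_oc_mixed {b₁ b₂ e f w : G} (h₁ : b₁ ∈ D.X₁) (h₂ : b₂ = 1 ∨ b₂ ∈ D.X₂)
    (hc : b₁ * b₂ = b₂ * b₁) (he : e ∈ D.X₁) (hf : f ∈ D.X₂)
    (heb : e * (b₁ * b₂) = b₁ * b₂ * e) (hfb : f * (b₁ * b₂) = b₁ * b₂ * f)
    (hwb : w * (b₁ * b₂) = b₁ * b₂ * w) (hwe : w ∈ oc e) (hwf : w ∈ oc f) :
    w ∈ oc (b₁ * b₂) := by
  obtain ⟨N, C, hN, hC, hN2, hd, hX, hY, -⟩ := local_data D h₁ h₂ hc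
  haveI := hN
  haveI : (centralizer (N : Set (CentQuot (b₁ * b₂)))).Normal := Subgroup.normal_centralizer
  refine (mem_oc_iff (w := ⟨w, mem_centralizer_singleton_iff.mpr hwb⟩)).mpr ?_
  refine eq_one_of_centralizes Thompson.pPrimeCore_quotient_pPrimeCore (N := N)
    (odd_orderOf_cmk (odd_orderOf_oc hwe)) (centralizes_normal hf.1 hfb hwf hwb (hY _ hf)) ?_
  exact centralizes_normal he.1 heb hwe hwb
    (mem_centralizer_iff.mpr fun y hy => (mem_centralizer_iff.mp hy _ (hX _ he)).symm)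

/-- Every element of a four-group and every element centralising it. -/
theorem mem_oc_four {E : Subgroup G} (hE : IsFourIn D.X₁ E) {e e' w : G} (he : e ∈ E) (he1 : e ≠ 1)
    (he' : e' ∈ E) (he'1 : e' ≠ 1) (hw : w ∈ oc e) (hwE : w ∈ centralizer (E : Set G)) :
    w ∈ oc e' := by
  rcases eq_or_ne e e' with rfl | hne
  · exact hw
  haveI := hE.fourLike.1
  exact mem_oc_same D (hE.mem_X he he1) (hE.mem_X he' he'1) hne
    (congrArg Subtype.val (mul_comm' (⟨e, he⟩ : E) ⟨e', he'⟩)) hw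
    (mem_centralizer_iff.mp hwE e' he').symm

end Cfsg.Agent.ProdFus42
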