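import Cfsg.Agent.ProdFus42.Connect

/-!
# The two classes of involutions centralise each other
-/

set_option autoImplicit false
set_option linter.style.haveILetI false
set_option linter.unusedSectionVars false

namespace Cfsg.Agent.ProdFus42

open Subgroup Coprime
open scoped Pointwise commutatorElement

universe u

variable {G : Type u} [Group G] [Finite G] (D : Hyp G)

/-- `W` is the completion of the functor of a pair. -/
structure IsCompletion (E₁ E₂ W : Subgroup G) : Prop where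
  pair : Pair D E₁ E₂
  inv : E₁ ⊔ E₂ ≤ normalizer (W : Set G)
  odd : Odd (Nat.card W)
  fix : ∀ a ∈ E₁ ⊔ E₂, a ≠ 1 → W ⊓ centralizer {a} = theta E₁ E₂ a

theorem exists_completion {E₁ E₂ : Subgroup G} (hp : Pair D E₁ E₂) :
    ∃ W, IsCompletion D E₁ E₂ W := by
  obtain ⟨-, W, hinv, hodd, hfix⟩ :=
    SFT45.isComplete_two hp.elementary hp.card_ge hp.isSolvableSignalizerFunctor
  refine ⟨W, hp, Coprime.le_normalizer_of_conj_mem fun a ha x hx => hinv a ha x hx, ?_, hfix⟩
  rw [← Nat.not_even_iff_odd, even_iff_two_dvd]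
  exact hodd

namespace IsCompletion

variable {D} {E₁ E₂ W : Subgroup G} (h : IsCompletion D E₁ E₂ W)
include h

theorem fix_eq_phi {f e : G} (hf : f ∈ E₂) (hf1 : f ≠ 1) (he : e ∈ E₁) (he1 : e ≠ 1) :
    W ⊓ centralizer {f} = phi f e := by
  rw [h.fix f (mem_sup_right hf) hf1, h.pair.theta_eq_psi hf hf1,
    psi_eq_phi D h.pair.four₁ (h.pair.le_cent_left (mem_sup_right hf)) he he1]

theorem eq_of_right {E₁' W' : Subgroup G} (h' : IsCompletion D E₁' E₂ W') {n : ℕ} (hn : 3 ≤ n)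
    (he : Nonempty (D.S₁ ≃* DihedralGroup (2 ^ (n - 1)))) : W = W' := by
  haveI := h.pair.four₂.fourLike.1
  suffices key : ∀ {A A' V V' : Subgroup G}, IsCompletion D A E₂ V → IsCompletion D A' E₂ V' →
      V ≤ V' from le_antisymm (key h h') (key h' h)
  intro A A' V V' hV hV'
  refine le_of_centralizer_le E₂ V V' hV.pair.four₂.fourLike.2.1 (le_sup_right.trans hV.inv)
    (hV.pair.four₂.coprime hV.odd) fun f hf hf1 => ?_
  obtain ⟨e, hae, he1, -⟩ := hV.pair.four₁.exists_other 1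
  obtain ⟨e', hae', he1', -⟩ := hV'.pair.four₁.exists_other 1
  rw [hV.fix_eq_phi hf hf1 hae he1,
    phi_eq_of_nonabelian D hn he (hV.pair.four₂.mem_X hf hf1) (hV.pair.four₁.mem_X hae he1)
      (hV'.pair.four₁.mem_X hae' he1')
      (hV.pair.sup_comm_elem (mem_sup_left hae) (mem_sup_right hf))
      (hV'.pair.sup_comm_elem (mem_sup_left hae') (mem_sup_right hf)),
    ← hV'.fix_eq_phi hf hf1 hae' he1']
  exact inf_le_left

theorem conj (g : G) : IsCompletion D (E₁.map (MulAut.conj g).toMonoidHom)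
    (E₂.map (MulAut.conj g).toMonoidHom) (W.map (MulAut.conj g).toMonoidHom) := by
  refine ⟨⟨h.pair.four₁.of_conj g fun x hx => invClass_conj g hx,
    h.pair.four₂.of_conj g fun x hx => invClass_conj g hx, ?_⟩, ?_, ?_, ?_⟩
  · rintro _ ⟨a, ha, rfl⟩
    refine mem_centralizer_iff.mpr ?_
    rintro _ ⟨b, hb, rfl⟩
    rw [← map_mul, ← map_mul, mem_centralizer_iff.mp (h.pair.comm ha) b hb]
  · rw [← Subgroup.map_sup]
    exact (map_mono h.inv).trans (le_normalizer_map _)
  · rw [card_map_of_injective (MulAut.conj g).injective]; exact h.odd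
  · rw [← Subgroup.map_sup]
    rintro _ ⟨a, ha, rfl⟩ ha1
    have ha1' : a ≠ 1 := fun e => ha1 (by simp [e])
    have h2 := congrArg (Subgroup.map (MulAut.conj g).toMonoidHom) (h.fix a ha ha1')
    rw [theta, map_inf _ _ _ (MulAut.conj g).injective, map_inf _ _ _ (MulAut.conj g).injective,
      map_conj_psi, map_conj_psi] at h2
    refine Eq.trans ?_ h2
    congr 1
    ext y
    constructor
    · intro hy
      refine ⟨g⁻¹ * y * g, ?_, by simp [mul_assoc]⟩
      rw [SetLike.mem_coe, mem_centralizer_singleton_iff]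
      have := mem_centralizer_singleton_iff.mp hy
      calc g⁻¹ * y * g * a = g⁻¹ * (y * (g * a * g⁻¹)) * g := by group
        _ = g⁻¹ * (g * a * g⁻¹ * y) * g := by rw [show y * (g * a * g⁻¹) = g * a * g⁻¹ * y from this]
        _ = a * (g⁻¹ * y * g) := by group
    · rintro ⟨w, hw, rfl⟩
      refine mem_centralizer_singleton_iff.mpr ?_
      rw [← map_mul, ← map_mul, mem_centralizer_singleton_iff.mp hw]

/-- Every involution of the first kind commuting with `f` lies in a pair with the same completion. -/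
theorem exists_pair {n : ℕ} (hn : 3 ≤ n) (he : Nonempty (D.S₁ ≃* DihedralGroup (2 ^ (n - 1))))
    {f x : G} (hf : f ∈ E₂) (hf1 : f ≠ 1) (hx : x ∈ D.X₁) (hxf : x * f = f * x) :
    ∃ A B, IsCompletion D A B W ∧ x ∈ A ∧ f ∈ B := by
  haveI := Fact.mk Nat.prime_two
  haveI := h.pair.four₂.fourLike.1
  have hf2 : f ∈ D.X₂ := h.pair.four₂.mem_X hf hf1
  set H := centralizer ({f} : Set G) with hH
  have hE₂H : E₂ ≤ H := h.pair.le_cent_right (mem_sup_right hf)
  obtain ⟨N, C, hN, -, -, -, hX, hY, -⟩ := local_data_one D.swap hf2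
  let x' : H := ⟨x, mem_centralizer_singleton_iff.mpr hxf⟩
  have hxo : orderOf x' = 2 := by rw [← Subgroup.orderOf_coe]; exact hx.1
  have hxs : Group.IsSolvable (zpowers x') := Group.isSolvable_of_comm fun a b => mul_comm' a b
  have hcomm : ∀ e : H, e ∈ E₂.subgroupOf H → Commute (cmk f x') (cmk f e) := by
    intro e hee
    rcases eq_or_ne (e : G) 1 with h1 | h1
    · rw [show e = 1 from Subtype.ext h1, map_one]; exact Commute.one_right _
    · exact (mem_centralizer_iff.mp (hY x' hx) _ (hX e (h.pair.four₂.mem_X hee h1))).symm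
  have hsup : E₂.subgroupOf H ≤
      pPrimeCore 2 H ⊔ centralizer (zpowers x' : Set H) := by
    intro e hee
    obtain ⟨m, hm, hem⟩ := exists_fixed_in_coset (zpowers x') (pPrimeCore 2 H)
      (by simp [Subgroup.normalizer_eq_top])
      (by rw [Nat.card_zpowers, hxo]; exact Thompson.card_pPrimeCore_coprime.symm) (Or.inl hxs) e
      (fun z hz => by
        rw [← QuotientGroup.eq_one_iff (N := pPrimeCore 2 H)]
        obtain ⟨i, rfl⟩ := mem_zpowers_iff.mp hz
        have h2 := ((hcomm e hee).zpow_left i).eq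
        rw [← map_zpow] at h2
        simp only [QuotientGroup.mk'_apply] at h2
        simp only [QuotientGroup.mk_mul, QuotientGroup.mk_inv]
        rw [h2, mul_inv_cancel_right, inv_mul_cancel])
    simpa using mul_mem (mem_sup_right hem :
      e * m ∈ pPrimeCore 2 H ⊔ centralizer (zpowers x' : Set H)) (mem_sup_left (inv_mem hm))
  have hcard : Nat.card (E₂.subgroupOf H) = Nat.card E₂ :=
    Nat.card_congr (subgroupOfEquivOfLe hE₂H).toEquiv
  obtain ⟨k, hk, hkE⟩ := exists_conj_le_of_le_sup (E₂.subgroupOf H) (pPrimeCore 2 H)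
    (centralizer (zpowers x' : Set H)) (by simp [Subgroup.normalizer_eq_top])
    (by simp [Subgroup.normalizer_eq_top])
    (by
      rw [hcard]
      obtain ⟨i, hi⟩ := h.pair.four₂.isPGroup.exists_card_eq
      rw [hi]
      exact (Thompson.card_pPrimeCore_coprime (G := H)).symm.pow_left i)
    (Or.inl (Group.isSolvable_of_comm fun a b => mul_comm' a b)) hsup
  set o : G := (k : G) with ho
  have hoc : o ∈ oc f := ⟨k, hk, rfl⟩
  set x₂ := o⁻¹ * x * o with hx₂
  have hx₂X : x₂ ∈ D.X₁ := by simpa [hx₂] using invClass_conj o⁻¹ hx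
  have hx₂E : ∀ e ∈ E₂, x₂ * e = e * x₂ := by
    intro e hee
    have h2 := congrArg Subtype.val
      (mem_centralizer_iff.mp (hkE ⟨e, hE₂H hee⟩ hee) x' (mem_zpowers x'))
    replace h2 : x * (o * e * o⁻¹) = o * e * o⁻¹ * x := h2
    calc x₂ * e = o⁻¹ * (x * (o * e * o⁻¹)) * o := by rw [hx₂]; group
      _ = o⁻¹ * (o * e * o⁻¹ * x) * o := by rw [h2]
      _ = e * x₂ := by rw [hx₂]; group
  have hx₂f := hx₂E f hf
  obtain ⟨y, hy, c, hc, hyc⟩ := Coprime.exists_commutator_mul_centralizer (zpowers x₂) (oc f)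
    ((zpowers_le.mpr (mem_centralizer_singleton_iff.mpr hx₂f)).trans
      (centralizer_le_normalizer_oc f))
    (by rw [Nat.card_zpowers, hx₂X.1]; exact Nat.coprime_two_left.mpr (odd_card_oc f))
    (Or.inl (Group.isSolvable_of_comm fun a b => mul_comm' a b)) o hoc
  have hxy : y * x₂ * y⁻¹ = x := by
    have hcx : c * x₂ * c⁻¹ = x₂ := by
      rw [← mem_centralizer_iff.mp (mem_inf.mp hc).2 x₂ (mem_zpowers x₂), mul_inv_cancel_right]
    calc y * x₂ * y⁻¹ = y * (c * x₂ * c⁻¹) * y⁻¹ := by rw [hcx]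
      _ = (y * c) * x₂ * (y * c)⁻¹ := by group
      _ = o * x₂ * o⁻¹ := by rw [hyc]
      _ = x := by rw [hx₂]; group
  have hR : IsPGroup 2 (zpowers x₂ ⊔ E₂ : Subgroup G) :=
    (IsPGroup.of_card (n := 1) (by rw [Nat.card_zpowers, hx₂X.1, pow_one])).to_sup_of_normal_right'
      h.pair.four₂.isPGroup (le_trans (zpowers_le.mpr (mem_centralizer_iff.mpr fun e hee =>
        (hx₂E e hee).symm)) (centralizer_le_normalizer _))
  obtain ⟨A, hA, hxA, hAc⟩ := exists_four D hR hx₂X (mem_sup_left (mem_zpowers x₂))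
  have hp' : Pair D A E₂ := ⟨hA, h.pair.four₂, fun a ha => mem_centralizer_iff.mpr fun e hee => by
    rcases eq_or_ne e 1 with rfl | he1
    · simp
    · exact (mem_centralizer_singleton_iff.mp
        (hAc e (h.pair.four₂.mem_X hee he1) (mem_sup_right hee) ha)).symm⟩
  obtain ⟨W', hW'⟩ := exists_completion D hp'
  obtain rfl := h.eq_of_right hW' hn he
  have hyW : y ∈ W := by
    have hyp : y ∈ phi f x₂ := mem_sup_left hy
    rw [← hW'.fix_eq_phi hf hf1 hxA (Involution.ne_one_of_orderOf hx₂X.1)] at hyp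
    exact (mem_inf.mp hyp).1
  have hyf : y * f * y⁻¹ = f := by
    have hyo : y ∈ oc f := Coprime.commutator_le_of_le_normalizer
      ((zpowers_le.mpr (mem_centralizer_singleton_iff.mpr hx₂f)).trans
        (centralizer_le_normalizer_oc f)) hy
    rw [oc_comm hyo, mul_inv_cancel_right]
  refine ⟨A.map (MulAut.conj y).toMonoidHom, E₂.map (MulAut.conj y).toMonoidHom, ?_,
    ⟨x₂, hxA, hxy⟩, ⟨f, hf, hyf⟩⟩
  have h3 := hW'.conj y
  rwa [map_eq_of_mem_normalizer (le_normalizer hyW)] at h3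

/-- An involution of the first kind splits along `f`. -/
theorem exists_split {n : ℕ} (hn : 3 ≤ n) (he : Nonempty (D.S₁ ≃* DihedralGroup (2 ^ (n - 1))))
    {f x : G} (hf : f ∈ E₂) (hf1 : f ≠ 1) (hx : x ∈ D.X₁) :
    ∃ x₀ ∈ D.X₁, x₀ * f = f * x₀ ∧ x₀ ∈ normalizer (W : Set G) ∧ x * x₀⁻¹ ∈ W := by
  have hf2 : f ∈ D.X₂ := h.pair.four₂.mem_X hf hf1
  have hx2 := Involution.mul_self_of_orderOf hx.1
  have hff := Involution.mul_self_of_orderOf hf2.1
  set r := x * f with hr
  have hxr : x * r * x⁻¹ = r⁻¹ := by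
    rw [hr, mul_inv_rev, Involution.inv_of_orderOf hx.1, Involution.inv_of_orderOf hf2.1,
      ← mul_assoc, hx2, one_mul]
  have hfr : f * r * f⁻¹ = r⁻¹ := by
    rw [hr, mul_inv_rev, Involution.inv_of_orderOf hx.1, Involution.inv_of_orderOf hf2.1,
      mul_assoc f, mul_assoc x, hff, mul_one]
  have hpx : ∀ a : G, a * r * a⁻¹ = r⁻¹ → ∀ i : ℕ, a * r ^ i = (r ^ i)⁻¹ * a := by
    intro a ha i
    rw [← mul_inv_eq_iff_eq_mul, ← conj_pow, ha, inv_pow]
  have heven : Even (orderOf r) := by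
    by_contra hodd
    obtain ⟨d, hd⟩ := Involution.exists_conj_of_odd hx2 hff (Nat.not_even_iff_odd.mp hodd)
    exact D.not_both (hd ▸ invClass_conj _ hx : f ∈ D.X₁) hf2
  obtain ⟨m, hm⟩ := heven
  have hm0 : 0 < m := by have := orderOf_pos r; omega
  set k := r ^ m with hk
  have hk2 : k * k = 1 := by rw [hk, ← pow_add, ← hm, pow_orderOf_eq_one]
  have hk1 : k ≠ 1 := fun e => by
    have := Nat.le_of_dvd hm0 (orderOf_dvd_of_pow_eq_one e)
    omega
  have hkinv : k⁻¹ = k := inv_eq_of_mul_eq_one_right hk2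
  have hkc : ∀ a : G, a * r * a⁻¹ = r⁻¹ → a * k = k * a := fun a ha => by
    rw [hk, hpx a ha, ← hk, hkinv]
  have hmo : Odd m := by
    by_contra hme
    obtain ⟨l, hl⟩ := Nat.not_odd_iff_even.mp hme
    have hsplit : ∀ {X : Set G} {a : G}, a ∈ X → a * r * a⁻¹ = r⁻¹ →
        (∀ g : G, ∀ b ∈ X, g * b * g⁻¹ ∈ X) →
        (∀ {a b : G}, a ∈ X → b ∈ X → a * b = b * a → a ≠ b → a * b ∈ X) →
        a * a = 1 → k ∈ X := by
      intro X a ha har hconj hmul ha2
      have hak : (r ^ l)⁻¹ * a * (r ^ l)⁻¹⁻¹ = a * k := by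
        rw [hk, hl, pow_add, inv_inv, mul_assoc, hpx a har, ← mul_assoc a, hpx a har,
          mul_assoc _ a, hpx a har]
      have h3 := hmul ha (hak ▸ hconj _ _ ha : a * k ∈ X) (by
        rw [← mul_assoc, ha2, one_mul, mul_assoc, ← hkc a har, ← mul_assoc, ha2, one_mul])
        (fun e => hk1 (mul_eq_left.mp e.symm))
      rwa [← mul_assoc, ha2, one_mul] at h3
    exact D.not_both (hsplit hx hxr (fun g b hb => invClass_conj g hb) D.mul_mem_X₁ hx2)
      (hsplit hf2 hfr (fun g b hb => invClass_conj g hb) D.swap.mul_mem_X₁ hff)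
  obtain ⟨j, hj⟩ := hmo
  set u := r ^ (m + 1) with hu
  have humx : u * (k * f) = x := by
    rw [hu, hk, ← mul_assoc, ← pow_add, show m + 1 + m = orderOf r + 1 by omega, pow_succ,
      pow_orderOf_eq_one, one_mul, hr, mul_assoc, hff, mul_one]
  have hx₀2 : k * f * (k * f) = 1 := by
    rw [show k * f * (k * f) = k * (f * k) * f by group, hkc f hfr, ← mul_assoc, hk2, one_mul, hff]
  have huodd : Odd (orderOf u) := by
    refine (show Odd m from ⟨j, hj⟩).of_dvd_nat (orderOf_dvd_of_pow_eq_one ?_)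
    rw [hu, ← pow_mul, show (m + 1) * m = orderOf r * (j + 1) by
      rw [hm, show m + 1 = 2 * (j + 1) by omega]; ring, pow_mul, pow_orderOf_eq_one, one_pow]
  have hx₀i : (k * f)⁻¹ = k * f := inv_eq_of_mul_eq_one_right hx₀2
  have hxu : x * (k * f) = u := by
    rw [← humx, mul_assoc, hx₀2, mul_one]
  have hx₀X : k * f ∈ D.X₁ := by
    obtain ⟨d, hd⟩ := Involution.exists_conj_of_odd hx2 hx₀2 (by rw [hxu]; exact huodd)
    exact hd ▸ invClass_conj _ hx
  have hx₀f : k * f * f = f * (k * f) := by rw [← mul_assoc f, hkc f hfr]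
  obtain ⟨A, B, hAB, hxA, hfB⟩ := h.exists_pair hn he hf hf1 hx₀X hx₀f
  have hkk : k * f * f = k := by rw [mul_assoc, hff, mul_one]
  refine ⟨k * f, hx₀X, hx₀f, hAB.inv (mem_sup_left hxA), ?_⟩
  rw [hx₀i, hxu]
  have hfu : f * u * f⁻¹ = u⁻¹ := by rw [hu, hpx f hfr, mul_inv_cancel_right]
  have hcku : k * u = u * k := by rw [hu, hk]; exact ((Commute.refl r).pow_pow _ _).eq
  have hx₀u : k * f * u * (k * f)⁻¹ = u⁻¹ := by
    rw [show k * f * u * (k * f)⁻¹ = k * (f * u * f⁻¹) * k⁻¹ by group, hfu,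
      (Commute.inv_right hcku).eq, mul_inv_cancel_right]
  have hoc := mem_oc_of_inverted D hx₀X (Or.inr hf2) hx₀f hx₀X
    (by rw [hkk, mul_assoc, hkc f hfr, ← mul_assoc])
    (by rw [hkk]; exact hcku.symm) huodd hx₀u
  have h3 := hAB.pair.inverted_mem_theta hxA hfB hoc hx₀u hfu
  rw [← hAB.fix _ (mul_mem (mem_sup_left hxA) (mem_sup_right hfB))
    (by rw [hkk]; exact hk1)] at h3
  exact (mem_inf.mp h3).1

end IsCompletion

/-- The involutions of the two kinds commute. -/
theorem commute_of_nonabelian (hO : pPrimeCore 2 G = ⊥) {n : ℕ} (hn : 3 ≤ n)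
    (he : Nonempty (D.S₁ ≃* DihedralGroup (2 ^ (n - 1)))) {x f : G} (hx : x ∈ D.X₁)
    (hf : f ∈ D.X₂) : x * f = f * x := by
  haveI := Fact.mk Nat.prime_two
  obtain ⟨g, hg⟩ := D.exists_conj (R := zpowers f)
    (IsPGroup.of_card (n := 1) (by rw [Nat.card_zpowers, hf.1, pow_one]))
  set E := D.conj g with hE
  have hfS : f ∈ E.S₂ := E.mem_S₂ (by rw [D.X₂_conj]; exact hf) (hg (mem_zpowers f))
  obtain ⟨w, hw, hwo, hwf, hfw⟩ := E.dih₂.exists_commuting hfS hf.1
  obtain ⟨z, hz, hzo⟩ := E.dih₁.exists_invol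
  obtain ⟨v, hv, hvo, hvz, hzv⟩ := E.dih₁.exists_commuting (E.dih₁.le hz) hzo
  have h₁ : IsFourIn D.X₁ (Subgroup.closure {z, v}) := D.isFourIn
    (show z ∈ D.X₁ by rw [← D.X₁_conj g]; exact E.mem_X₁ (E.dih₁.le hz) hzo)
    (show v ∈ D.X₁ by rw [← D.X₁_conj g]; exact E.mem_X₁ hv hvo) hzv hvz.symm
  have h₂ : IsFourIn D.X₂ (Subgroup.closure {f, w}) := D.swap.isFourIn
    hf (show w ∈ D.X₂ by rw [← D.X₂_conj g]; exact E.mem_X₂ hw hwo) hfw hwf.symm
  have hcomm : Subgroup.closure {z, v} ≤ centralizer (Subgroup.closure {f, w} : Set G) := by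
    refine le_centralizer_iff.mp ((closure_le _).mpr ?_)
    intro b hb
    refine SetLike.mem_coe.mpr (le_centralizer_iff.mp ?_ (mem_zpowers b))
    refine (closure_le _).mpr ?_
    intro a ha
    refine mem_centralizer_iff.mpr fun b' hb' => ?_
    obtain ⟨i, rfl⟩ := mem_zpowers_iff.mp hb'
    have haS : a ∈ E.S₁ := by rcases ha with rfl | rfl; exacts [E.dih₁.le hz, hv]
    have hbS : b ∈ E.S₂ := by rcases hb with rfl | rfl; exacts [hfS, hw]
    exact (E.comm a haS _ (zpow_mem hbS i)).symm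
  obtain ⟨W, hW⟩ := exists_completion D (E₁ := Subgroup.closure {z, v})
    (E₂ := Subgroup.closure {f, w}) ⟨h₁, h₂, hcomm⟩
  have hf1 := Involution.ne_one_of_orderOf hf.1
  have hfE : f ∈ Subgroup.closure ({f, w} : Set G) := subset_closure (by simp)
  set N₁ := Subgroup.closure D.X₁ with hN₁
  haveI hnorm : N₁.Normal := ⟨fun y hy g => by
    suffices N₁ ≤ N₁.comap (MulAut.conj g).toMonoidHom from this hy
    exact (closure_le _).mpr fun z hz => subset_closure (invClass_conj g hz)⟩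
  have hN₁W : N₁ ≤ normalizer (W : Set G) := (closure_le _).mpr fun y hy => by
    obtain ⟨y₀, -, -, hy₀, hyW⟩ := hW.exists_split hn he hfE hf1 hy
    simpa using mul_mem (le_normalizer hyW) hy₀
  have hbot : W ⊓ N₁ = ⊥ := by
    have hsn : ((W ⊓ N₁).subgroupOf N₁).Normal := (normal_subgroupOf_iff_le_normalizer inf_le_right).mpr
      (Coprime.le_normalizer_inf hN₁W le_normalizer)
    have hle := Thompson.le_pPrimeCore hsn (p := 2) (by
      rw [Nat.card_congr (subgroupOfEquivOfLe inf_le_right).toEquiv]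
      exact Nat.coprime_two_right.mpr (hW.odd.of_dvd_nat (card_dvd_of_le inf_le_left)))
    rw [eq_bot_iff, ← hO]
    intro y hy
    exact Thompson.map_pPrimeCore_normal_le N₁
      (mem_map_of_mem N₁.subtype (hle (show (⟨y, (mem_inf.mp hy).2⟩ : N₁) ∈
        (W ⊓ N₁).subgroupOf N₁ from hy)))
  obtain ⟨x₀, hx₀, hx₀f, -, hxW⟩ := hW.exists_split hn he hfE hf1 hx
  have h1 : x * x₀⁻¹ ∈ W ⊓ N₁ :=
    mem_inf.mpr ⟨hxW, mul_mem (subset_closure hx) (inv_mem (subset_closure hx₀))⟩
  rw [hbot, mem_bot, mul_inv_eq_one] at h1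
  exact h1 ▸ hx₀f

end Cfsg.Agent.ProdFus42
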